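import Cfsg.Agent.TwoF.DC.TA.Iface
import Cfsg.Agent.TwoF.DC.Rep
import Cfsg.Agent.H379.CV.SUDown

/-!
# TwoF, defining characteristic, type `A_n`, instances (1): the group `SL_(n+1)(k)` (helper52)

`rdA p n k : RDat`; `mp f` : a ring homomorphism applied to the entries; `th0`, `th` : the graph automorphism.
-/

set_option autoImplicit false
set_option linter.unusedSectionVars false

namespace Cfsg.Agent.TwoF.DC.TA.I

open Matrix Cfsg.Agent.H45.UniE Cfsg.Agent.H356.TA Cfsg.Agent.TitsThree.KSideA Cfsg.Agent.Nodes.RGDTypeA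
open scoped commutatorElement

/-- the special linear group -/
abbrev SLn (n : ℕ) (k : Type*) [Field k] := SpecialLinearGroup (Fin (n + 1)) k

variable {n : ℕ} {k : Type} [Field k]

theorem val_mul (g h : SLn n k) : (g * h).1 = g.1 * h.1 := rfl
theorem val_one : (1 : SLn n k).1 = 1 := rfl
theorem val_mul_inv (g : SLn n k) : g.1 * (g⁻¹).1 = 1 := by rw [← val_mul, mul_inv_cancel, val_one]
theorem val_inv_mul (g : SLn n k) : (g⁻¹).1 * g.1 = 1 := by rw [← val_mul, inv_mul_cancel, val_one]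

theorem sum_cfA (b : Pos n) : ∑ j, cfA b j = (b.1.2 : ℕ) - b.1.1 := by
  have h1 := b.1.2.2
  have h2 : ∑ j, cfA b j = ∑ j ∈ Finset.range n, if (b.1.1 : ℕ) ≤ j ∧ j < b.1.2 then 1 else 0 :=
    Fin.sum_univ_eq_sum_range (fun j => if (b.1.1 : ℕ) ≤ j ∧ j < b.1.2 then 1 else 0) n
  rw [h2, ← Finset.card_filter, ← Nat.card_Ico]
  congr 1
  ext j
  simp only [Finset.mem_filter, Finset.mem_range, Finset.mem_Ico]
  omega

theorem hA_apply (i : Fin n) (c : kˣ) (x : Fin (n + 1)) :
    (hA i c).1 x x = ((c ^ (ev x i.castSucc - ev x i.succ) : kˣ) : k) := by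
  show (diagonal _ : Matrix _ _ k) x x = _
  rw [diagonal_apply_eq, ev, ev]
  by_cases h1 : x = i.castSucc
  · simp [h1, (cs_ne i).symm]
  · by_cases h2 : x = i.succ
    · simp [h2, cs_ne i, (cs_ne i).symm]
    · simp [h1, h2, Ne.symm h1, Ne.symm h2]

theorem T_ext {s t : SLn n k} (hs : s ∈ T (Fin (n + 1)) k) (ht : t ∈ T (Fin (n + 1)) k) (h : ∀ x, s.1 x x = t.1 x x) :
    s = t := Subtype.ext (by rw [T_eq_diagonal hs, T_eq_diagonal ht]; exact congrArg diagonal (funext h))

theorem T_mul_apply {s t : SLn n k} (hs : s ∈ T (Fin (n + 1)) k) (x y : Fin (n + 1)) :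
    (s * t).1 x y = s.1 x x * t.1 x y := by
  show (s.1 * t.1) x y = _
  rw [T_eq_diagonal hs, diagonal_mul, diagonal_apply_eq]

theorem hA_mem (i : Fin n) (c : kˣ) : hA i c ∈ T (Fin (n + 1)) k := diag_mem_T _ _

theorem hA_mul (i : Fin n) (c d : kˣ) : hA i (c * d) = hA i c * hA i d :=
  T_ext (hA_mem _ _) (mul_mem (hA_mem _ _) (hA_mem _ _)) fun x => by
    rw [T_mul_apply (hA_mem _ _), hA_apply, hA_apply, hA_apply, _root_.mul_zpow, Units.val_mul]

/-- **the group `SL_(n+1)(k)` with its root combinatorics** -/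
noncomputable def rdA (p : ℕ) [hp : Fact p.Prime] (n : ℕ) (k : Type) [Field k] : RDat p (Fin n) (Pos n) k (SLn n k) where
  toFDat := fdA n k
  R := RA n
  zi_eq := rfl
  ht_eq b := by
    show 2 * ((b.1.2 : ℕ) - b.1.1) = ∑ j : Fin n, cfA b j * (2 * ((j : ℕ) + 1 - j))
    simp only [Nat.add_sub_cancel_left, mul_one]
    rw [← Finset.sum_mul, sum_cfA, mul_comm]
  hh_mul := hA_mul
  hh_comm i j c d := T_comm (hA_mem _ _) (hA_mem _ _)
  hh_z i c b a := by
    show hA i c * tv b.1.1 b.1.2 a = tv b.1.1 b.1.2 _ * hA i c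
    rw [T_tv (hA_mem i c) b.2.ne, hA_apply, hA_apply, isA_RA.wt_true, mul_right_comm, ← Units.val_inv_eq_inv_val,
      ← Units.val_mul, ← _root_.zpow_sub]
    congr 5
    simp only [tw, Pi.sub_apply]
    ring
  n_z i b hb := by
    have hm := mono_ns (F := k) i
    refine ⟨Units.mk0 _ (mul_ne_zero (hm.apply_ne_zero b.1.1) (inv_ne_zero (hm.apply_ne_zero b.1.2))), fun t => ?_⟩
    have h1 := hm.conj_tv b.2.ne t
    rw [mul_inv_eq_iff_eq_mul, mul_right_comm] at h1
    have h2 : ns n k i = tv i.castSucc i.succ 1 * tv i.succ i.castSucc (-1) * tv i.castSucc i.succ 1 := by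
      rw [ns, nn, inv_one]
    show tv i.castSucc i.succ 1 * tv i.succ i.castSucc (-1) * tv i.castSucc i.succ 1 * tv b.1.1 b.1.2 t =
      tv (sA i b).1.1 (sA i b).1.2 _ * (tv i.castSucc i.succ 1 * tv i.succ i.castSucc (-1) * tv i.castSucc i.succ 1)
    rw [← h2, sA_val hb]
    exact h1
  cm b b' s t := by
    obtain ⟨⟨a, c⟩, h⟩ := b
    obtain ⟨⟨a', c'⟩, h'⟩ := b'
    have h : a < c := h
    have h' : a' < c' := h'
    show ⁅tv a c s, tv a' c' t⁆ ∈ _
    by_cases h1 : c = a'
    · subst h1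
      rw [tv_comm h.ne h'.ne (h.trans h').ne]
      exact Subgroup.subset_closure ⟨⟨(a, c'), h.trans h'⟩, _, ⟨1, 1, one_pos, one_pos, by
        rw [one_smul, one_smul]; exact isA_RA.cf_add h h'⟩, rfl⟩
    by_cases h2 : a = c'
    · subst h2
      rw [← commutatorElement_inv, tv_comm h'.ne h.ne (h'.trans h).ne]
      exact inv_mem (Subgroup.subset_closure ⟨⟨(a', c), h'.trans h⟩, _, ⟨1, 1, one_pos, one_pos, by
        rw [one_smul, one_smul]; exact (isA_RA.cf_add h' h).trans (add_comm _ _)⟩, rfl⟩)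
    · rw [commutatorElement_eq_one_iff_commute.2 (tv_commute h1 h2 s t)]
      exact one_mem _
  nz i b a ha hz := by
    obtain ⟨⟨x, c⟩, h⟩ := b
    have h : x < c := h
    have hi := cs_ne i
    have hil : i.castSucc < i.succ := Fin.castSucc_lt_succ
    rcases (isA_RA.nz_true hp.out.ne_one _ _).1 hz with h1 | h1
    · obtain rfl : i.succ = x := h1
      obtain rfl : a = ⟨(i.castSucc, c), hil.trans h⟩ := cfA_inj (ha.trans (isA_RA.cf_add hil h).symm)
      refine ⟨[(⟨(i.castSucc, c), hil.trans h⟩, -1, 1), (⟨(i.succ, c), h⟩, 1, 1)], by simp, fun t => ?_, by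
        simp [hi.symm]⟩
      simp only [List.map_cons, List.map_nil, List.prod_cons, List.prod_nil, one_mul, mul_one, pow_one]
      show tv i.castSucc i.succ (-1) * tv i.succ c t * tv i.castSucc i.succ 1 = tv i.castSucc c (-1 * t) * tv i.succ c t
      rw [tv_swap hi h.ne (hil.trans h).ne, mul_assoc, mul_assoc, ← tv_add, neg_add_cancel, tv_zero, mul_one]
    · obtain rfl : i.castSucc = c := h1
      obtain rfl : a = ⟨(x, i.succ), h.trans hil⟩ :=
        cfA_inj (ha.trans ((add_comm _ _).trans (isA_RA.cf_add h hil).symm))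
      refine ⟨[(⟨(x, i.castSucc), h⟩, 1, 1), (⟨(x, i.succ), h.trans hil⟩, 1, 1)], by simp, fun t => ?_, by
        simp [hi]⟩
      simp only [List.map_cons, List.map_nil, List.prod_cons, List.prod_nil, one_mul, mul_one, pow_one]
      show tv i.castSucc i.succ (-1) * tv x i.castSucc t * tv i.castSucc i.succ 1 = tv x i.castSucc t * tv x i.succ t
      rw [mul_assoc, tv_swap h.ne hi (h.trans hil).ne, mul_one, (tv_commute hi.symm (h.trans hil).ne t 1).eq, ← mul_assoc,
        ← mul_assoc, ← tv_add, neg_add_cancel, tv_zero, one_mul, (tv_commute (h.trans hil).ne' h.ne t t).eq]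

variable {p : ℕ} [hp : Fact p.Prime]

/-- diagonal matrices are determined by the leading minors -/
theorem T_ext_DA {s t : SLn n k} (hs : s ∈ T (Fin (n + 1)) k) (ht : t ∈ T (Fin (n + 1)) k) (h : ∀ i, DA i s = DA i t) :
    s = t := by
  refine T_ext hs ht (congrFun (H379.SUD.diag_unique (d := fun x => s.1 x x) (d' := fun x => t.1 x x)
    (mem_T.1 ht).apply_ne_zero (fun i => ?_) ?_))
  · have h1 := h i
    rwa [DA, DA, T_eq_diagonal hs, T_eq_diagonal ht, ld_diagonal (le_of_fin i), ld_diagonal (le_of_fin i)] at h1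
  · rw [← det_diagonal, ← det_diagonal, ← T_eq_diagonal hs, ← T_eq_diagonal ht, s.2, t.2]

/-- the torus is generated by the coroot elements -/
theorem T_le : T (Fin (n + 1)) k ≤ Subgroup.closure {g | ∃ i c, g = hA i c} := by
  intro t ht
  have h0 : ∀ i, DA i t ≠ 0 := fun i => left_ne_zero_of_mul_eq_one (b := DA i t⁻¹) (by
    rw [← DA_mul_T i ht, inv_mul_cancel]; exact ld_one (le_of_fin i))
  have key : ∀ S : Finset (Fin n), ∃ u ∈ T (Fin (n + 1)) k, u ∈ Subgroup.closure {g | ∃ i c, g = hA i c} ∧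
      ∀ i, DA i u = if i ∈ S then DA i t else 1 := by
    intro S
    induction S using Finset.induction_on with
    | empty => exact ⟨1, one_mem _, one_mem _, fun i => ld_one (le_of_fin i)⟩
    | insert j S hj ih =>
      obtain ⟨u, h1, h2, h3⟩ := ih
      refine ⟨u * hA j (Units.mk0 _ (h0 j)), mul_mem h1 (hA_mem _ _), mul_mem h2 (Subgroup.subset_closure ⟨_, _, rfl⟩),
        fun i => ?_⟩
      rw [DA_mul_T i (hA_mem _ _), DA_hA, h3]
      by_cases hi : i = j
      · simp [hi, hj]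
      · simp [hi]
  obtain ⟨u, h1, h2, h3⟩ := key Finset.univ
  rwa [T_ext_DA ht h1 fun i => by rw [h3, if_pos (Finset.mem_univ _)]]

/-! ### ring homomorphisms -/

section mp

variable {F : Type} [Field F]

/-- a ring homomorphism applied to the entries -/
def mp (f : F →+* k) : SLn n F →* SLn n k := SpecialLinearGroup.map f

theorem mp_apply (f : F →+* k) (g : SLn n F) (a b : Fin (n + 1)) : (mp f g).1 a b = f (g.1 a b) := rfl

theorem mp_val (f : F →+* k) (g : SLn n F) : (mp f g).1 = g.1.map f := rfl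

theorem mp_tv (f : F →+* k) {a b : Fin (n + 1)} (hab : a ≠ b) (s : F) : mp f (tv a b s) = tv a b (f s) := by
  ext i j
  rw [mp_apply, tv_val hab, tv_val hab, Matrix.add_apply, Matrix.add_apply, map_add, Matrix.one_apply, Matrix.one_apply,
    Matrix.single_apply, Matrix.single_apply]
  split_ifs <;> simp

theorem DA_mp (f : F →+* k) (i : Fin n) (g : SLn n F) : DA i (mp f g) = f (DA i g) := by
  rw [DA, DA, ld_eq (le_of_fin i), ld_eq (le_of_fin i), RingHom.map_det]
  rfl

theorem mp_inj (f : F →+* k) : Function.Injective (mp (n := n) f) := fun g h e => by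
  ext a b
  exact f.injective (congrArg (fun x : SLn n k => x.1 a b) e)

theorem mp_mem_T (f : F →+* k) {t : SLn n F} (ht : t ∈ T (Fin (n + 1)) F) : mp f t ∈ T (Fin (n + 1)) k :=
  fun a b h => mem_T.1 ht a b fun h0 => h (by rw [mp_apply, h0, map_zero])

theorem exists_mp (f : F →+* k) {g : SLn n k} (h : ∀ a b, ∃ x, f x = g.1 a b) : ∃ s, mp f s = g := by
  choose x hx using h
  have e : (Matrix.of x).map f = g.1 := by ext a b; exact hx a b
  exact ⟨⟨Matrix.of x, f.injective (by rw [RingHom.map_det, map_one]; exact (congrArg det e).trans g.2)⟩, Subtype.ext e⟩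

theorem mp_dlt (f : F →+* k) (s : Fˣ) : mp f (dlt n s) = dlt n (Units.map f.toMonoidHom s) :=
  T_ext (mp_mem_T f (dl_mem _ _)) (dl_mem _ _) fun x => by
    show f ((diagonal _ : Matrix _ _ F) x x) = (diagonal _ : Matrix _ _ k) x x
    simp only [diagonal_apply_eq, ← map_zpow]
    rfl

/-- inverse, transpose and reflection in the antidiagonal -/
def th0 : SLn n F →* SLn n F where
  toFun g := ⟨(g⁻¹).1ᵀ.submatrix Fin.revPerm Fin.revPerm, by rw [det_submatrix_equiv_self, det_transpose, (g⁻¹).2]⟩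
  map_one' := Subtype.ext (by
    show ((1 : SLn n F)⁻¹).1ᵀ.submatrix Fin.revPerm Fin.revPerm = 1
    rw [inv_one, val_one, transpose_one, submatrix_one_equiv])
  map_mul' g h := Subtype.ext (by
    show ((g * h)⁻¹).1ᵀ.submatrix Fin.revPerm Fin.revPerm =
      (g⁻¹).1ᵀ.submatrix Fin.revPerm Fin.revPerm * (h⁻¹).1ᵀ.submatrix Fin.revPerm Fin.revPerm
    rw [_root_.mul_inv_rev, val_mul, transpose_mul, submatrix_mul_equiv])

theorem th0_apply (g : SLn n F) (a b : Fin (n + 1)) : (th0 g).1 a b = (g⁻¹).1 b.rev a.rev := rfl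

theorem th0_th0 (g : SLn n F) : th0 (th0 g) = g := by
  ext a b
  rw [th0_apply, ← map_inv, th0_apply, inv_inv, Fin.rev_rev, Fin.rev_rev]

theorem mp_th0 (f : F →+* k) (g : SLn n F) : mp f (th0 g) = th0 (mp f g) := by
  ext a b
  rw [mp_apply, th0_apply, th0_apply, ← map_inv, mp_apply]

theorem th0_tv {a b : Fin (n + 1)} (hab : a ≠ b) (s : F) : th0 (tv a b s) = tv b.rev a.rev (-s) := by
  ext i j
  rw [th0_apply, ← tv_neg, tv_val hab, tv_val (fun e => hab (Fin.rev_injective e).symm), Matrix.add_apply, Matrix.add_apply,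
    Matrix.one_apply, Matrix.one_apply, Matrix.single_apply, Matrix.single_apply]
  simp only [Fin.rev_eq_iff, and_comm, Fin.rev_rev, eq_comm (a := j) (b := i)]

theorem th0_dlt (s : Fˣ) : th0 (dlt n s) = dlt n s := by
  have h : (dlt n s)⁻¹ = dlt n s⁻¹ := by
    rw [inv_eq_iff_mul_eq_one]
    refine ((gdA n F).δ_mul s s⁻¹).symm.trans ?_
    rw [mul_inv_cancel]
    exact mul_eq_left.1 (((gdA n F).δ_mul 1 1).symm.trans (by rw [mul_one]))
  ext a b
  rw [th0_apply, h]
  show (diagonal _ : Matrix _ _ F) b.rev a.rev = (diagonal _ : Matrix _ _ F) a b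
  by_cases hab : a = b
  · subst hab
    simp only [diagonal_apply_eq, _root_.inv_zpow', Fin.val_rev]
    congr 2
    have := a.2
    omega
  · rw [diagonal_apply_ne _ hab, diagonal_apply_ne _ fun e => hab (Fin.rev_injective e).symm]

end mp

end Cfsg.Agent.TwoF.DC.TA.I
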