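import Cfsg.Agent.TwoF.DC.TA.I.Dat
import Cfsg.Agent.H564.TWP.Low
import Cfsg.Agent.H905.PCover
import Cfsg.Agent.Nodes.NormalForm

/-!
# TwoF, defining characteristic, type `A_n`, instances (2): general lemmas, Frobenius and graph automorphism (helper52)
-/

set_option autoImplicit false
set_option linter.unusedSectionVars false

namespace Cfsg.Agent.TwoF.DC.TA.I

open Matrix Polynomial Cfsg.Agent.H45.Uni Cfsg.Agent.H45.UniE Cfsg.Agent.H356.TA Cfsg.Agent.TitsThree.KSideA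
  Cfsg.Agent.Nodes.RGDTypeA Cfsg.Agent.H564.TWP
open Cfsg.Agent.H564.TW (datQ)

/-! ### general lemmas -/

section gen

variable {ι Φ k G : Type} [Field k] [Group G]

theorem δ_inv (D : GDat ι Φ k G) (s : kˣ) : (D.δ s)⁻¹ = D.δ s⁻¹ := by
  rw [inv_eq_iff_mul_eq_one, ← D.δ_mul, mul_inv_cancel]
  exact mul_eq_left.1 ((D.δ_mul 1 1).symm.trans (by rw [mul_one]))

theorem δ_conj (D : GDat ι Φ k G) (s : kˣ) (b : Φ) (a : k) :
    D.δ s * D.z b a * (D.δ s)⁻¹ = D.z b ((s : k) ^ D.ht b * a) := by rw [D.δ_z, mul_inv_cancel_right]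

theorem δ_U (D : GDat ι Φ k G) (s : kˣ) {u : G} (hu : u ∈ D.U) : D.δ s * u * (D.δ s)⁻¹ ∈ D.U := by
  refine (Subgroup.closure_le (D.U.comap (MulAut.conj (D.δ s)).toMonoidHom)).2 ?_ hu
  rintro _ ⟨b, a, rfl⟩
  show D.δ s * D.z b a * (D.δ s)⁻¹ ∈ D.U
  rw [δ_conj]
  exact D.z_mem_U _ _

theorem δ_τ (D : GDat ι Φ k G) (s : kˣ) (g : G) : D.τ (D.δ s⁻¹ * g * (D.δ s⁻¹)⁻¹) = D.δ s * D.τ g * (D.δ s)⁻¹ := by
  rw [D.τ_mul, D.τ_mul, D.τ_T _ (inv_mem (D.δ_mem _)), D.τ_T _ (D.δ_mem _), δ_inv, δ_inv, inv_inv, mul_assoc]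

theorem δ_Um (D : GDat ι Φ k G) (s : kˣ) {u : G} (hu : u ∈ D.Um) : D.δ s * u * (D.δ s)⁻¹ ∈ D.Um := by
  rw [← D.τ_τ u, ← δ_τ]
  exact D.τ_U (δ_U D _ (D.τ_Um hu))

/-- transport of the lowest components along a conjugation and a scaling of the root elements -/
theorem low_tr [Infinite k] (D D' : DatR ι Φ k G) (hc : D'.c = D.c) (hM : D'.M = D.M) (hδ : D'.δ = D.δ) (hq : D'.qq = D.qq)
    {t : G} (ht : ∀ s, D.δ s * t = t * D.δ s) (hz : ∀ b, ∃ c, ∀ s, D.z b s * t = t * D'.z b (c * s)) {P P' : Subgroup G}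
    (hP : ∀ u ∈ P', t * u * t⁻¹ ∈ P)
    (h : ∀ f ∈ D'.L, (∀ u ∈ P', ∀ g, f (g * u) = f g) → ∀ n, (∀ m < n, D'.H m f = 0) → D'.H n f ∈ D'.K) :
    ∀ f ∈ D.L, (∀ u ∈ P, ∀ g, f (g * u) = f g) → ∀ n, (∀ m < n, D.H m f = 0) → D.H n f ∈ D.K := by
  intro f hf h1 n h2
  have hL : D'.L = D.L := by rw [DatR.L, DatR.L, hc]
  have hf' : RR t⁻¹ f ∈ D'.L := hL ▸ D.RR_mem _ hf
  have hH : ∀ m g, D'.H m (RR t⁻¹ f) g = D.H m f (g * t⁻¹) := fun m g => by
    obtain ⟨Q, -, hQ⟩ := D.L_pol_δ hf (g * t⁻¹)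
    rw [D.H_apply hf m hQ]
    refine D'.H_apply hf' m fun s => ?_
    rw [← hQ, hM, hδ]
    show _ * f (g * D.δ s * t⁻¹) = _
    rw [mul_assoc g, mul_assoc g, show D.δ s * t⁻¹ = t⁻¹ * D.δ s by
      rw [mul_inv_eq_iff_eq_mul, mul_assoc, ht, inv_mul_cancel_left]]
  have h3 := h _ hf' (fun u hu g => by
    show f (g * u * t⁻¹) = f (g * t⁻¹)
    rw [← h1 _ (hP u hu) (g * t⁻¹)]
    congr 1
    group) n fun m hm => funext fun g => by rw [hH, h2 m hm]; rfl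
  refine ⟨D.H_mem n hf, fun b m h0 hm => funext fun g => ?_⟩
  obtain ⟨c, hc'⟩ := hz b
  obtain ⟨Q, -, hQ⟩ := D'.L_pol_z h3.1 b (g * t)
  have h4 := congrFun (h3.2 b m h0 (hq ▸ hm)) (g * t)
  rw [D'.X_apply h3.1 b m hQ] at h4
  rw [D.X_apply (D.H_mem n hf) b m (P := Q.comp (Polynomial.C c * Polynomial.X)) fun s => by
    rw [eval_comp, eval_mul, eval_C, eval_X, ← hQ, hH, mul_assoc g t, ← hc', ← mul_assoc, mul_inv_cancel_right],
    comp_C_mul_X_coeff, h4]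
  exact zero_mul _

variable [DecidableEq ι]

theorem Δ_conj (D : FDat ι Φ k G) (i : ι) {t : G} (ht : t ∈ D.T) (g : G) : D.Δ i (t * g * t⁻¹) = D.Δ i g := by
  rw [D.Δ_T i _ (inv_mem ht), D.Δ_T' i ht, ← mul_assoc, ← D.Δ_T i _ (inv_mem ht), mul_inv_cancel, D.Δ_one, one_mul]

/-- transport of the hypotheses of the twisted engine -/
theorem hyp_tr [Infinite k] [Fintype ι] {p q : ℕ} {J S : Type} {C : J → Type} [∀ j, CommGroup (C j)] [Group S] [Finite S]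
    [DecidableEq J] {E : TSys J C S} {D D' : FDat ι Φ k G} {φ : S →* G} {χ : (j : J) → C j →* kˣ} {orb : ι → J} {e : ι → ℕ}
    (h : Hyp p E D' φ χ orb e fun _ => q) (hm : E.Map D φ χ orb e) (hΔ : D'.Δ = D.Δ) (hM : D'.M = D.M) (hδ : D'.δ = D.δ)
    (hz : ∀ b, ∃ c, ∀ s, D.z b s = D'.z b (c * s)) (μ : kˣ)
    (hτ : ∀ g ∈ ((MulAut.conj (D.δ μ)).toMonoidHom.comp φ).range, D.τ g ∈ ((MulAut.conj (D.δ μ)).toMonoidHom.comp φ).range) :
    Hyp p E D ((MulAut.conj (D.δ μ)).toMonoidHom.comp φ) χ orb e fun _ => q where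
  map := ⟨fun u hu => δ_U D.toGDat μ (hm.U u hu), fun u hu => δ_Um D.toGDat μ (hm.Um u hu),
    fun u hu => mul_mem (mul_mem (D.δ_mem μ) (hm.H u hu)) (inv_mem (D.δ_mem μ)),
    fun i j b => (Δ_conj D i (D.δ_mem μ) _).trans (hm.hh i j b), fun i j => (Δ_conj D i (D.δ_mem μ) _).trans (hm.n i j),
    hm.e_pos, hτ⟩
  Up := h.Up
  Um := h.Um
  fin := h.fin
  cyc := h.cyc
  χ_inj := h.χ_inj
  sg0 := h.sg0
  qq_pos := h.qq_pos
  cmq := cmq_const _ q
  low l hl := low_tr (datQ D (fun _ => q) l hl h.qq_pos (cmq_const _ q)) (datQ D' (fun _ => q) l hl h.qq_pos h.cmq)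
    (funext fun g => Finset.prod_congr rfl fun i _ => by rw [hΔ]) (Finset.sum_congr rfl fun i _ => by rw [hM]) hδ rfl
    (t := D.δ μ) (fun s => by
      show D.δ s * D.δ μ = D.δ μ * D.δ s
      rw [← D.δ_mul, ← D.δ_mul, mul_comm]) (fun b => by
      obtain ⟨c, hc⟩ := hz b
      refine ⟨c * ((μ : k) ^ D.ht b)⁻¹, fun s => ?_⟩
      show D.z b s * D.δ μ = D.δ μ * D'.z b _
      rw [mul_assoc, ← hc, D.δ_z, mul_inv_cancel_left₀ (pow_ne_zero _ μ.ne_zero)])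
    (by rintro _ ⟨u, hu, rfl⟩; exact ⟨u, hu, rfl⟩) (h.low l hl)
  lam := h.lam

/-- the fundamental functions are permuted by the graph automorphisms -/
theorem Δ_map [Infinite k] {p : ℕ} [Fintype ι] [Fintype Φ] [DecidableEq Φ] (D : RDat p ι Φ k G)
    (hT : D.T ≤ Subgroup.closure {g | ∃ i c, g = D.hh i c}) {α : G →* G} {γ : Equiv.Perm ι}
    (hx : ∀ i t, α (D.x i t) = D.x (γ i) t) (hy : ∀ i t, α (D.y i t) = D.y (γ i) t) (i : ι) (g : G) :
    D.Δ (γ i) (α g) = D.Δ i g := by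
  have h1 : ∀ u ∈ D.U0, ∀ g, D.Δ (γ i) (g * α u) = D.Δ (γ i) g ∧ D.Δ i (g * u) = D.Δ i g := by
    intro u hu
    induction hu using Subgroup.closure_induction with
    | mem u hu => obtain ⟨j, s, rfl⟩ := hu; exact fun g => ⟨by rw [hx, D.Δ_x], D.Δ_x _ _ _ _⟩
    | one => exact fun g => ⟨by rw [map_one, mul_one], by rw [mul_one]⟩
    | mul a b _ _ h1 h2 => exact fun g => ⟨by rw [map_mul, ← mul_assoc, (h2 _).1, (h1 _).1], by
        rw [← mul_assoc, (h2 _).2, (h1 _).2]⟩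
    | inv a _ h1 => exact fun g => ⟨by rw [← (h1 _).1, map_inv, inv_mul_cancel_right], by
        rw [← (h1 _).2, inv_mul_cancel_right]⟩
  have h2 : ∀ u ∈ D.Um0, ∀ g, D.Δ (γ i) (α u * g) = D.Δ (γ i) g ∧ D.Δ i (u * g) = D.Δ i g := by
    intro u hu
    induction hu using Subgroup.closure_induction with
    | mem u hu => obtain ⟨j, s, rfl⟩ := hu; exact fun g => ⟨by rw [hy, D.Δ_y], D.Δ_y _ _ _ _⟩
    | one => exact fun g => ⟨by rw [map_one, one_mul], by rw [one_mul]⟩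
    | mul a b _ _ h1 h2 => exact fun g => ⟨by rw [map_mul, mul_assoc, (h1 _).1, (h2 _).1], by
        rw [mul_assoc, (h1 _).2, (h2 _).2]⟩
    | inv a _ h1 => exact fun g => ⟨by rw [← (h1 _).1, map_inv, mul_inv_cancel_left], by
        rw [← (h1 _).2, mul_inv_cancel_left]⟩
  have h3 : ∀ t ∈ Subgroup.closure {g | ∃ i c, g = D.hh i c}, t ∈ D.T ∧ α t ∈ D.T ∧ D.Δ (γ i) (α t) = D.Δ i t := by
    intro t ht
    induction ht using Subgroup.closure_induction with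
    | mem t ht =>
      obtain ⟨j, c, rfl⟩ := ht
      rw [D.map_hh (RingHom.id k) hx hy, D.Δ_hh, D.Δ_hh]
      exact ⟨D.hh_mem _ _, D.hh_mem _ _, by simp only [γ.apply_eq_iff_eq]; rfl⟩
    | one => exact ⟨one_mem _, by rw [map_one]; exact one_mem _, by rw [map_one, D.Δ_one, D.Δ_one]⟩
    | mul a b _ _ h1 h2 => exact ⟨mul_mem h1.1 h2.1, by rw [map_mul]; exact mul_mem h1.2.1 h2.2.1, by
        rw [map_mul, D.Δ_T _ _ h2.1, D.Δ_T _ _ h2.2.1, h1.2.2, h2.2.2]⟩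
    | inv a _ h1 =>
      refine ⟨inv_mem h1.1, by rw [map_inv]; exact inv_mem h1.2.1, ?_⟩
      have e1 := D.Δ_T i _ h1.1 a⁻¹
      have e2 := D.Δ_T (γ i) _ h1.2.1 (α a⁻¹)
      rw [← map_mul, inv_mul_cancel, map_one, D.Δ_one, h1.2.2] at e2
      rw [inv_mul_cancel, D.Δ_one] at e1
      exact mul_left_cancel₀ (left_ne_zero_of_mul_eq_one e1.symm) (e2.symm.trans e1)
  refine D.dens_eq (f := fun g => D.Δ (γ i) (α g)) (f' := D.Δ i) (fun j g h => ?_) (fun j g h => ?_) (fun v hv t ht u hu => ?_) g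
  · obtain ⟨P, -, hP⟩ := D.pol_y (γ i) (γ j) (α g) (α h)
    exact ⟨P, fun s => by rw [← hP, map_mul, map_mul, hy]⟩
  · obtain ⟨P, -, hP⟩ := D.pol_y i j g h
    exact ⟨P, hP⟩
  · show D.Δ (γ i) (α (v * t * u)) = _
    rw [map_mul, map_mul, (h1 u hu _).1, (h1 u hu _).2, (h2 v hv _).1, (h2 v hv _).2, (h3 t (hT ht)).2.2]

end gen

section grp

variable {p : ℕ} [hp : Fact p.Prime] {T : Type} [Group T] [Finite T]

theorem card_of_syl {U : Subgroup T} (hU : IsPGroup p U) (hi : ¬ p ∣ U.index) {a b e : ℕ} (ha : ¬ p ∣ a) (hb : ¬ p ∣ b)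
    (h : a * Nat.card T = p ^ e * b) : Nat.card U = p ^ e := by
  obtain ⟨m, hm⟩ := IsPGroup.iff_card.1 hU
  rw [← U.card_mul_index, hm, mul_left_comm] at h
  have h1 : ¬ p ∣ a * U.index := fun h => (hp.out.dvd_mul.1 h).elim ha hi
  rw [hm]
  refine Nat.dvd_antisymm ?_ ?_
  · exact (Nat.Coprime.pow_left m ((Nat.Prime.coprime_iff_not_dvd hp.out).2 hb)).dvd_of_dvd_mul_right ⟨_, h.symm⟩
  · exact (Nat.Coprime.pow_left e ((Nat.Prime.coprime_iff_not_dvd hp.out).2 h1)).dvd_of_dvd_mul_right ⟨_, h⟩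

open Cfsg.Agent.ChevalleyStructure.CoxeterGeom Cfsg.Agent.Tits.Roots Cfsg.Agent.Nodes.BNOf in
theorem syl_of_rgd {I W : Type*} [Fintype I] [DecidableEq I] [Group W] [Finite W] {M : CoxeterMatrix I}
    {cs : CoxeterSystem M W} {A : I → I → ℤ} {h : IsCartan M A} {H : Subgroup T} {n : I → T} {X : (I → ℤ) → Subgroup T}
    (R : RGD cs h p H n X) (hg : (⨆ i, (X (sr i) ⊔ X (-sr i))) ⊔ H = ⊤) : ¬ p ∣ (RGD.Sup X (RGD.Pos cs h)).index := by
  obtain ⟨S, hS⟩ := R.isPGroup_Upos.exists_le_sylow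
  rw [← Nodes.NormalForm.eq_U_of_isPGroup R S.isPGroup' hS (le_top.trans (hg.ge.trans (sup_le (iSup_le fun i =>
    (sup_le (RGD.le_Sup (S := {x | IsRoot cs h x}) (isRoot_sr cs h i))
      (RGD.le_Sup (S := {x | IsRoot cs h x}) (isRoot_sr cs h i).neg)).trans le_sup_right) le_sup_left)))]
  exact S.not_dvd_index

theorem cover_of (hT : commutator T = ⊤) (hN : ∀ r : ℕ, r.Prime → r ≠ p → H67.NoPCov r T) (K : Type) [Group K] [Finite K]
    (hK : IsQuasisimple K) (hp' : ¬ p ∣ Nat.card (Subgroup.center K)) (e : (K ⧸ Subgroup.center K) ≃* T ⧸ Subgroup.center T) :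
    ∃ ψ : T →* K, Function.Surjective ψ ∧ ∀ s, e (QuotientGroup.mk (ψ s)) = QuotientGroup.mk s := by
  have hk : (e.toMonoidHom.comp (QuotientGroup.mk' (Subgroup.center K))).ker = Subgroup.center K := by
    rw [← MonoidHom.comap_ker, (MonoidHom.ker_eq_bot_iff _).2 e.injective, MonoidHom.comap_bot, QuotientGroup.ker_mk']
  obtain ⟨θ, h1, h2⟩ := H905.PCover.exists_hom_of_noPCov hT hN (QuotientGroup.mk'_surjective (Subgroup.center T))
    (QuotientGroup.ker_mk' _).le hK.1.commutator_eq_top (f := e.toMonoidHom.comp (QuotientGroup.mk' _))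
    (e.surjective.comp (QuotientGroup.mk'_surjective _)) hk.le hp.out
    (by rw [hk]; exact ((Nat.Prime.coprime_iff_not_dvd hp.out).2 hp').symm)
  exact ⟨θ, h1, fun s => DFunLike.congr_fun h2 s⟩

theorem two {Γ : Type} [Group Γ] {r : Γ} (hr : r * r = 1) (γ : Subgroup.zpowers r) : γ = 1 ∨ γ.1 = r := by
  obtain ⟨_, m, rfl⟩ := γ
  rcases Int.even_or_odd' m with ⟨j, rfl | rfl⟩
  · exact Or.inl (Subtype.ext (by simp only [_root_.zpow_mul, zpow_two, hr, _root_.one_zpow]; rfl))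
  · exact Or.inr (by simp only [_root_.zpow_add, _root_.zpow_mul, zpow_two, hr, _root_.one_zpow, one_mul, zpow_one])

open Classical in
/-- a homomorphism on a group of order at most two -/
noncomputable def hom2 {Γ A : Type} [Group Γ] [Group A] {r : Γ} (hr : r * r = 1) (a : A) (ha : a * a = 1) :
    Subgroup.zpowers r →* A := MonoidHom.mk' (fun γ => if γ = 1 then 1 else a) fun γ γ' => by
  by_cases h : γ = 1
  · simp [h]
  by_cases h' : γ' = 1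
  · simp [h']
  have e : γ * γ' = 1 := Subtype.ext (by
    rw [Subgroup.coe_mul, (two hr γ).resolve_left h, (two hr γ').resolve_left h', hr]; rfl)
  simp [h, h', e, ha]

theorem hom2_of_ne {Γ A : Type} [Group Γ] [Group A] {r : Γ} (hr : r * r = 1) (a : A) (ha : a * a = 1)
    {γ : Subgroup.zpowers r} (h : γ ≠ 1) : hom2 hr a ha γ = a := if_neg h

theorem card_Pos (n : ℕ) : Fintype.card (Pos n) = (n + 1) * (n + 1 - 1) / 2 := by
  rw [Fintype.card_subtype, Fintype.card_product_filter_lt, Fintype.card_fin, Nat.choose_two_right]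

end grp

end Cfsg.Agent.TwoF.DC.TA.I
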