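import Cfsg.Agent.TwoF.DC.TA.I.Th
import Cfsg.Agent.H564.TWP.Rgd
import Cfsg.Agent.H905.MdI
import Cfsg.Agent.H481.OddAut.Root
import Cfsg.Agent.S0242
import Cfsg.Agent.S2690

/-!
# TwoF, defining characteristic, type `A_n`, instances (4): `SL_(n+1)(q)`, **`boxL`** (helper52)
-/

set_option autoImplicit false
set_option maxHeartbeats 400000
set_option linter.unusedSectionVars false

namespace Cfsg.Agent.TwoF.DC.TA.I

open Matrix Cfsg.Agent.H45.UniE Cfsg.Agent.H356.TA Cfsg.Agent.TitsThree.KSideA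
  Cfsg.Agent.Nodes.RGDTypeA Cfsg.Agent.H564.TWP Cfsg.Agent.Nodes.RootsA Cfsg.Agent.Nodes.BNOf
  Cfsg.Agent.ChevalleyStructure.CoxeterGeom Cfsg.Agent.Tits.Roots
open Cfsg.Agent.LieRecognition.BNCox (cA)
open Cfsg.Agent.H564.TW (datQ)

section gen

variable {ι Φ k G : Type} [Field k] [Group G] [DecidableEq ι] (D : FDat ι Φ k G)

theorem Δ_xy [Infinite k] (i j : ι) (a s : k) : D.Δ i (D.x j a * D.y j s) = if i = j then 1 + a * s else 1 := by
  obtain ⟨P, -, hP⟩ := D.pol_y i j (D.x j a) 1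
  have h : P = if i = j then 1 + Polynomial.C a * Polynomial.X else 1 := by
    refine Polynomial.eq_of_infinite_eval_eq _ _ (Set.infinite_of_finite_compl
      ((Set.finite_singleton (-a⁻¹)).subset fun s hs => by_contra fun h => hs ?_))
    have h0 : 1 + a * s ≠ 0 := fun e => h (by
      have ha : a ≠ 0 := by rintro rfl; simp at e
      show s = -a⁻¹
      field_simp
      linear_combination e)
    show P.eval s = _
    rw [← hP, mul_one, D.rank j a s (Units.mk0 _ h0) rfl, D.Δ_x, D.Δ_y, D.Δ_hh]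
    split_ifs <;> simp
  rw [← mul_one (D.x j a * D.y j s), hP, h]
  split_ifs <;> simp

theorem cc_single [Fintype ι] (i : ι) (g : G) : D.cc (Pi.single i 1) g = D.Δ i g := by
  rw [FDat.cc, Finset.prod_eq_single i (fun j _ h => by rw [Pi.single_eq_of_ne h, pow_zero])
    fun h => absurd (Finset.mem_univ _) h, Pi.single_eq_same, pow_one]

theorem wt_id [Fintype ι] (l : ι → ℕ) : TSys.wt id (fun _ => 1) l = l := funext fun j => by
  simp only [TSys.wt, id, one_mul, Finset.filter_eq', Finset.mem_univ, if_true, Finset.sum_singleton]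

end gen

variable {p : ℕ} [hp : Fact p.Prime] {n : ℕ} {F : Type} [Field F]

/-- the coroots -/
noncomputable def hAm (n : ℕ) (F : Type) [Field F] (i : Fin n) : Fˣ →* SLn n F := MonoidHom.mk' (hA i) (hA_mul i)

theorem ns_eq (i : Fin n) : ns n F i = (gdA n F).x i 1 * (gdA n F).y i (-1) * (gdA n F).x i 1 := by
  rw [ns, nn, inv_one]
  rfl

variable [Fintype F] [CharP F p]

theorem rinL : RIn (rgd (F := F) (p := p) (csA n) (isCartan n)) (fun _ => Fˣ) (hAm n F) (ns n F) where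
  comm _ hs _ ht := T_comm hs ht
  hh_mem := hA_mem
  H_gen := T_le
  gen := by
    rw [eq_top_iff, ← gen_A, Subgroup.closure_le]
    rintro _ ⟨i, s, rfl | rfl⟩
    · exact Subgroup.mem_sup_left (Subgroup.mem_iSup_of_mem i (Subgroup.mem_sup_left (X_sr (F := F) i ▸ tv_mem_XX _ _ _)))
    · exact Subgroup.mem_sup_left (Subgroup.mem_iSup_of_mem i (Subgroup.mem_sup_right (X_neg_sr (F := F) i ▸ tv_mem_XX _ _ _)))
  hn i := ⟨1, one_mem _, (one_mul _).symm⟩
  rank i u hu h1 := by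
    rw [X_sr] at hu
    obtain ⟨t, rfl⟩ := hu
    have ht : -t ≠ 0 := neg_ne_zero.2 fun e => h1 (by rw [e, tv_zero])
    refine ⟨(gdA n F).y i (-1 / -t), X_neg_sr (F := F) i ▸ tv_mem_XX _ _ _, Units.mk0 _ ht,
      (gdA n F).x i ((t + 1) / -t + 1), X_sr (F := F) i ▸ tv_mem_XX _ _ _, ?_⟩
    rw [ns_eq, ← mul_assoc, ← mul_assoc, GDat.x_add, ← mul_assoc]
    exact congrArg (· * (gdA n F).x i 1) ((congrArg (· * (gdA n F).y i (-1)) ((gdA n F).x_add i t 1).symm).trans
      ((gdA n F).rank i (t + 1) (-1) (Units.mk0 _ ht) (by rw [Units.val_mk0]; ring)))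

/-- the system of `SL_(n+1)(F)` -/
noncomputable def sysL (p : ℕ) [Fact p.Prime] (n : ℕ) (F : Type) [Field F] [Fintype F] [CharP F p] :
    TSys (Fin n) (fun _ => Fˣ) (SLn n F) := ofRGD (rgd (F := F) (p := p) (csA n) (isCartan n)) rinL

variable {k : Type} [Field k] [Algebra F k] [Infinite k] [CharP k p]

theorem Δ_un (i j : Fin n) (t : F) : (fdA n k).Δ i (mp (algebraMap F k) ((gdA n F).x j t * ns n F j)) =
    if i = j then -algebraMap F k t else 1 := by
  have hx : ∀ t, mp (algebraMap F k) ((gdA n F).x j t) = (fdA n k).x j (algebraMap F k t) := fun t => mp_tv _ (cs_ne j) t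
  have hy : mp (algebraMap F k) ((gdA n F).y j (-1)) = (fdA n k).y j (algebraMap F k (-1)) := mp_tv _ (cs_ne j).symm _
  rw [ns_eq, ← mul_assoc, ← mul_assoc, ← GDat.x_add, map_mul, map_mul, hx, hx, hy, FDat.Δ_x, Δ_xy]
  split_ifs <;> simp

theorem mapL (hτ : ∀ g ∈ (mp (n := n) (algebraMap F k)).range, (fdA n k).τ g ∈ (mp (n := n) (algebraMap F k)).range) :
    (sysL p n F).Map (fdA n k) (mp (algebraMap F k)) (fun _ => Units.map (algebraMap F k).toMonoidHom) id fun _ => 1 where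
  U u hu := by
    refine RGD.Sup_le (K := (fdA n k).U.comap (mp (algebraMap F k))) (fun z hz => ?_) hu
    obtain ⟨a, b, hab, rfl⟩ := exists_of_isRoot (csA n) (isCartan n) hz.1
    rw [X_rtA hab]
    rintro _ ⟨s, rfl⟩
    rw [Subgroup.mem_comap, mp_tv _ hab]
    exact (fdA n k).z_mem_U ⟨(a, b), lt_of_le_of_ne (rtA_nonneg_iff.1 hz.2) hab⟩ _
  Um u hu := by
    refine (Subgroup.closure_le ((fdA n k).Um.comap (mp (algebraMap F k)))).2 ?_ (UN_le hu)
    rintro _ ⟨b, s, rfl⟩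
    obtain ⟨s', h⟩ := (isBc (F := F) (k := k)).w b s
    exact Subgroup.subset_closure ⟨b, s', h⟩
  H _ h := mp_mem_T _ h
  hh i j b := by
    refine (congrArg (DA i) (bcA_hA j b)).trans ?_
    rw [DA_hA, pow_one]
    rfl
  n i j := by
    have h := Δ_un (k := k) i j (0 : F)
    rwa [GDat.x_zero, one_mul, map_zero, neg_zero] at h
  e_pos _ := one_pos
  τ := hτ

theorem hypL {f : ℕ} (hF : Fintype.card F = p ^ f)
    (hτ : ∀ g ∈ (mp (n := n) (algebraMap F k)).range, (fdA n k).τ g ∈ (mp (n := n) (algebraMap F k)).range) :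
    Hyp p (sysL p n F) (fdA n k) (mp (algebraMap F k)) (fun _ => Units.map (algebraMap F k).toMonoidHom) id (fun _ => 1)
      fun _ => p ^ f := by
  have : Finite (cA n).Group := finite_W (csA n) (isCartan n)
  have hq : 0 < p ^ f := pow_pos hp.out.pos f
  refine ⟨mapL hτ, isPGroup_U _ rinL, isPGroup_Um _ rinL, fun _ => inferInstance, fun _ => inferInstance,
    fun _ => Units.map_injective (algebraMap F k).injective, fun a j b hb => ?_, fun _ => hq, cmq_const _ _,
    fun l hl g hg h1 m hm => ?_, fun a ha => ⟨a, fun i => ?_, fun j => congrFun (wt_id a) j⟩⟩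
  · classical
    refine TSys.sg_zero_of_count (p := p) (fun c => ?_) hb
    have hx : ∀ t : F, (gdA n F).x j t ∈ (sysL p n F).X j := fun t => (X_sr (F := F) j).ge (tv_mem_XX _ _ _)
    have h1 : ∀ t : F, (gdA n F).x j t ≠ 1 → (((sysL p n F).rr j ((gdA n F).x j t)).2.1 : F) = -t := fun t ht => by
      have h := (mapL (p := p) hτ).cc_un (Pi.single j 1) (j := j) (u := (gdA n F).x j t)
        (hx t) ht
      rw [cc_single, wt_id, Pi.single_eq_same, pow_one] at h
      exact (algebraMap F k).injective (h.symm.trans ((Δ_un j j t).trans (by rw [if_pos rfl, map_neg])))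
    have h2 : (gdA n F).x j (-c) ≠ 1 := fun e => c.ne_zero (neg_eq_zero.1 (tv_inj (cs_ne j) (e.trans (tv_zero _ _).symm)))
    rw [Nat.card_eq_one_iff_exists.2 ⟨⟨_, hx _, h2, Units.ext ((h1 _ h2).trans (neg_neg _))⟩, ?_⟩,
      Nat.cast_one]
    rintro ⟨u, hu, h3, h4⟩
    obtain ⟨t, rfl⟩ := (X_sr (F := F) j).le hu
    exact Subtype.ext (congrArg ((gdA n F).x j) (neg_eq_iff_eq_neg.1 ((h1 t h3).symm.trans (congrArg Units.val h4))))
  · exact (datQ (fdA n k) _ l hl _ _).low_split (Fq := F) (fun _ => hF.symm)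
      (P := (sysL p n F).U.map (mp (algebraMap F k))) (fun b s => ⟨_, Up_le (Subgroup.subset_closure ⟨b, s, rfl⟩), mp_tv _ b.2.ne s⟩) g hg h1 m hm
  · have h := ha i
    rw [Nat.card_units, Nat.card_eq_fintype_card, hF] at h
    omega

omit [Algebra F k] [Infinite k] [CharP k p] [Fintype F] [CharP F p]

theorem not_dvd_sub {f m : ℕ} (hf : 0 < f) (hm : 0 < m) : ¬ p ∣ (p ^ f) ^ m - 1 := fun h => by
  have h1 : p ∣ (p ^ f) ^ m := dvd_pow (dvd_pow_self p hf.ne') hm.ne'
  have h2 := Nat.dvd_sub h1 h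
  rw [Nat.sub_sub_self (Nat.one_le_pow _ _ (pow_pos hp.out.pos f))] at h2
  exact hp.out.ne_one (Nat.dvd_one.1 h2)

theorem exists_dec {m : Matrix (Fin (n + 1)) (Fin (n + 1)) F} (d : Fin (n + 1) → Fˣ) (hd : ((∏ a, d a : Fˣ) : F) = m.det) :
    ∃ s : SLn n F, m = s.1 * diagonal fun a => (d a : F) :=
  ⟨⟨m * diagonal fun a => (((d a)⁻¹ : Fˣ) : F), by
    rw [det_mul, det_diagonal, ← hd, ← Units.coe_prod, Finset.prod_inv_distrib, Units.mul_inv]⟩, by
    show m = m * _ * _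
    simp only [Matrix.mul_assoc, diagonal_mul_diagonal, Units.inv_mul, diagonal_one, Matrix.mul_one]⟩

/-- conjugation by `s * d`, `d` diagonal, is inner * diagonal -/
theorem exists_h [IsAlgClosed k] (ψ : F →+* k) (s : SLn n F) (d : Fin (n + 1) → Fˣ) : ∃ h ∈ T (Fin (n + 1)) k,
    ∀ z y : SLn n F, z.1 * (s.1 * diagonal fun a => (d a : F)) = (s.1 * diagonal fun a => (d a : F)) * y.1 →
      mp ψ (s⁻¹ * z * s) = h * mp ψ y * h⁻¹ := by
  obtain ⟨c, hc⟩ := IsAlgClosed.exists_pow_nat_eq (ψ (∏ a, d a : Fˣ)) n.succ_pos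
  have hc0 : c ≠ 0 := fun e => (map_ne_zero ψ).2 (∏ a, d a : Fˣ).ne_zero (by rw [← hc, e, zero_pow n.succ_ne_zero])
  refine ⟨dl (fun a => Units.map ψ.toMonoidHom (d a) * (Units.mk0 c hc0)⁻¹) (by
    rw [Finset.prod_mul_distrib, ← map_prod, Finset.prod_const, Finset.card_univ, Fintype.card_fin, inv_pow, mul_inv_eq_one]
    exact Units.ext hc.symm), dl_mem _ _, fun z y h => ?_⟩
  have h1 : (s⁻¹ * z * s).1 * (diagonal fun a => (d a : F)) = (diagonal fun a => (d a : F)) * y.1 := by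
    rw [val_mul, val_mul, Matrix.mul_assoc, Matrix.mul_assoc, h, ← Matrix.mul_assoc, ← Matrix.mul_assoc, val_inv_mul,
      Matrix.one_mul]
  rw [eq_mul_inv_iff_mul_eq]
  ext a b
  have h2 := congrArg ψ (congrFun (congrFun h1 a) b)
  rw [mul_diagonal, diagonal_mul, map_mul, map_mul] at h2
  show ((mp ψ (s⁻¹ * z * s)).1 * diagonal _ : Matrix _ _ k) a b = (diagonal _ * (mp ψ y).1 : Matrix _ _ k) a b
  rw [mul_diagonal, diagonal_mul, mp_apply, mp_apply, Units.val_mul, Units.val_mul, mul_right_comm, ← mul_assoc]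
  exact congrArg (· * _) h2

theorem exists_conj (g : GL (Fin (n + 1)) F) (y : SLn n F) : ∃ z : SLn n F, z.1 = g.1 * y.1 * (g⁻¹).1 :=
  ⟨⟨g.1 * y.1 * (g⁻¹).1, by rw [det_mul, det_mul, y.2, mul_one, ← det_mul, g.mul_inv, det_one]⟩, rfl⟩

theorem mp_σ [CharP k p] (ψ : F →+* k) {σ : F ≃+* F} {j : ℕ} (h : ∀ x, σ x = x ^ p ^ j) (s : SLn n F) :
    mp ψ (mp σ.toRingHom s) = mp (iterateFrobenius k p j) (mp ψ s) := by
  ext a b
  rw [mp_apply, mp_apply, mp_apply, mp_apply, iterateFrobenius_def, ← map_pow, ← h]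
  rfl

theorem exists_ι [IsAlgClosed k] : ∃ ι : kˣ, (ι : k) ^ 2 = -1 := by
  obtain ⟨c, hc⟩ := IsAlgClosed.exists_pow_nat_eq (-1 : k) two_pos
  exact ⟨Units.mk0 c fun e => by simp [e] at hc, hc⟩

/-- **the instance `SL_(n+1)(q)`** -/
theorem boxL : BoxL := by
  intro p hp F _ _ _ n hn hs
  let k := AlgebraicClosure F
  obtain ⟨⟨f, hf⟩, -, hF⟩ := FiniteField.card F p
  have hF : Fintype.card F = p ^ f := hF
  obtain ⟨ι, hι⟩ := exists_ι (k := k)
  have : Finite (cA n).Group := finite_W (csA n) (isCartan n)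
  have hφ : ∀ g : SLn n k, g ∈ (mp (algebraMap F k)).range ↔ grA hι 1 (mp (iterateFrobenius k p f) g) = g := fun g => by
    rw [map_one]
    refine ⟨?_, fun h => exists_mp _ fun a b => H421.Uni.exists_of_pow (hF ▸ congrArg (fun x : SLn n k => x.1 a b) h)⟩
    rintro ⟨s, rfl⟩
    ext a b
    show algebraMap F k _ ^ p ^ f = _
    rw [← map_pow, ← hF, FiniteField.pow_card]
    rfl
  have syl : ¬ p ∣ (sysL p n F).U.index := syl_of_rgd (rgd (csA n) (isCartan n)) (rinL (p := p)).gen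
  have hT := H905.Md.sl_perfect (K := F) hn fun h => Nat.card_eq_fintype_card (α := F) ▸ hs h
  refine hasA_of hι hf 1 (mp (algebraMap F k)) (mp_inj _) hφ (hypL hF (τ_range hι hφ)) (fun W _ _ => wt_ofRGD _ rinL)
    (fun l hl j => ?_) (fun l l' _ _ h => by rwa [wt_id, wt_id] at h) ?_ syl hT (QuotientGroup.mk' _)
    (QuotientGroup.mk'_surjective _) (cover_of hT fun r hr hne => H60.CrossA.noPCov_SL_cross n p hr hne) (fun β => ?_)
    fun _ h => absurd rfl h
  · have h := hl j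
    rw [wt_id, Nat.card_units, Nat.card_eq_fintype_card, hF]
    omega
  · rw [← pow_mul]
    refine card_of_syl (isPGroup_U _ rinL) syl (a := p ^ f - 1) (b := ∏ i : Fin (n + 1), ((p ^ f) ^ (n + 1 - i) - 1))
      (pow_one (p ^ f) ▸ not_dvd_sub hf one_pos) (fun h => ?_) ?_
    · obtain ⟨i, -, hi⟩ := hp.out.prime.exists_mem_finset_dvd h
      exact not_dvd_sub hf (Nat.sub_pos_of_lt i.2) hi
    · rw [S0242.result hF (n + 1) n.succ_pos, pow_mul, card_Pos, ← Finset.sum_range_id, ← Fin.sum_univ_eq_sum_range (fun i => i),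
        ← Finset.prod_pow_eq_pow_sum, ← Finset.prod_mul_distrib]
      exact Finset.prod_congr rfl fun i _ => by rw [Nat.mul_sub, ← pow_add, Nat.add_sub_cancel' i.2.le, mul_one]
  · obtain ⟨δ, φ, γ, σ, ⟨g, hδ⟩, hφ', hγ, rfl⟩ := S2690.result hF hf (n := n + 1) (by omega) (fun h => hs (by omega)) β
    obtain ⟨j, hj, -⟩ := H481.OddAut.exists_pow hF σ
    have hg : g.1.det ≠ 0 := (Matrix.isUnit_iff_isUnit_det _).1 g.isUnit |>.ne_zero
    rcases hγ with rfl | hγ
    · obtain ⟨s, hs⟩ := exists_dec (m := g.1) (Pi.mulSingle 0 (Units.mk0 _ hg)) (by rw [Finset.prod_pi_mulSingle']; simp)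
      obtain ⟨h, hh, h1⟩ := exists_h (algebraMap F k) s (Pi.mulSingle 0 (Units.mk0 _ hg))
      refine ⟨s, h, 1, j, hh, fun s₁ => ?_⟩
      obtain ⟨z, hz⟩ := exists_conj g (mp σ.toRingHom s₁)
      refine ⟨s⁻¹ * z * s, ?_, ?_⟩
      · rw [h1 z (mp σ.toRingHom s₁) (by rw [← hs, hz, Matrix.mul_assoc, g.inv_mul, Matrix.mul_one]), mp_σ _ hj, map_one]
        rfl
      · rw [mul_one, MulAut.mul_apply, QuotientGroup.mk'_apply, hφ' s₁ (mp σ.toRingHom s₁) rfl, hδ _ z hz]
        exact congrArg _ (by group)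
    · have hg' : (g.1.submatrix id Fin.revPerm).det ≠ 0 := by
        rw [det_permute']
        exact mul_ne_zero (by rcases Int.units_eq_one_or (Equiv.Perm.sign (Fin.revPerm : Equiv.Perm (Fin (n + 1)))) with
          h | h <;> simp [h]) hg
      obtain ⟨s, hs⟩ := exists_dec (m := g.1.submatrix id Fin.revPerm) (Pi.mulSingle 0 (Units.mk0 _ hg'))
        (by rw [Finset.prod_pi_mulSingle']; simp)
      obtain ⟨h, hh, h1⟩ := exists_h (algebraMap F k) s (Pi.mulSingle 0 (Units.mk0 _ hg'))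
      refine ⟨s, h * (dlt n ι)⁻¹, γ0 n, j, mul_mem hh (inv_mem (dl_mem _ _)), fun s₁ => ?_⟩
      obtain ⟨z, hz⟩ := exists_conj g (mp σ.toRingHom s₁⁻¹.transpose)
      refine ⟨s⁻¹ * z * s, ?_, ?_⟩
      · rw [h1 z (mp σ.toRingHom (th0 s₁)) (by
          rw [← hs]
          show (z.1 * g.1).submatrix id Fin.revPerm = _
          rw [hz, Matrix.mul_assoc, g.inv_mul, Matrix.mul_one]
          exact (submatrix_mul_equiv _ _ id Fin.revPerm Fin.revPerm).symm), mp_σ _ hj, grA_γ0, th1_apply, mp_th0, mp_th0]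
        group
      · rw [MulAut.mul_apply, MulAut.mul_apply, QuotientGroup.mk'_apply, hγ s₁ s₁⁻¹.transpose rfl,
          hφ' _ (mp σ.toRingHom s₁⁻¹.transpose) rfl, hδ _ z hz]
        exact congrArg _ (by group)

end Cfsg.Agent.TwoF.DC.TA.I
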