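import Cfsg.Agent.TwoF.DC.TA.I.SL
import Cfsg.Agent.H356.TU.Sgn
import Cfsg.Agent.H61.SUCross
import Cfsg.Agent.H61.UThreeCE
import Cfsg.Agent.TitsThree.PQClass
import Cfsg.Agent.S0278
import Cfsg.Agent.S2692

/-!
# TwoF, defining characteristic, type `A_n`, instances (5): `SU_(n+1)(q)`, **`boxU`** (helper52)
-/

set_option autoImplicit false
set_option maxHeartbeats 400000
set_option linter.unusedSectionVars false

namespace Cfsg.Agent.TwoF.DC.TA.I

open Matrix Cfsg.Agent.H45.UniE Cfsg.Agent.H356.TA Cfsg.Agent.TitsThree.KSideA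
  Cfsg.Agent.Nodes.RGDTypeA Cfsg.Agent.H564.TWP Cfsg.Agent.LieClassical.HermBasic
open Cfsg.Agent.H356.TU (SJ Jm Jm_mul mul_Jm Jm_Jm map_Jm mem_SJ UB exists_UB phi chi orb ee Cs sysU fdE cjSL mem_SU_mat)

variable {p : ℕ} [hp : Fact p.Prime] {n : ℕ} {k : Type} [Field k]

/-! ### the subgroup of `Sp_4` -/

section three

/-- the elements of the elementary abelian subgroup -/
noncomputable def g3 (s t u : k) : SLn 3 k := tv 0 1 s * tv 2 3 s * (tv 0 2 t * tv 1 3 t) * tv 0 3 u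

theorem m4 (s t u : k) : ((1 + single (0 : Fin 4) (1 : Fin 4) s) * (1 + single 2 3 s) * ((1 + single 0 2 t) * (1 + single 1 3 t)) *
    (1 + single 0 3 u) : Matrix (Fin 4) (Fin 4) k) = !![1, s, t, s * t + u; 0, 1, 0, t; 0, 0, 1, s; 0, 0, 0, 1] := by
  simp (decide := true) only [add_mul, mul_add, one_mul, mul_one, single_mul_single_same, single_mul_single_of_ne, add_zero, ne_eq]
  ext i j
  fin_cases i <;> fin_cases j <;> simp

theorem m5 (s t u s' t' u' : k) : (!![1, s, t, s * t + u; 0, 1, 0, t; 0, 0, 1, s; 0, 0, 0, 1] *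
    !![1, s', t', s' * t' + u'; 0, 1, 0, t'; 0, 0, 1, s'; 0, 0, 0, 1] : Matrix (Fin 4) (Fin 4) k) =
    !![1, s + s', t + t', (s + s') * (t + t') + (u + u'); 0, 1, 0, t + t'; 0, 0, 1, s + s'; 0, 0, 0, 1] := by
  ext i j
  fin_cases i <;> fin_cases j <;> simp [Matrix.mul_apply, Fin.sum_univ_four] <;> ring

theorem g3_val (s t u : k) : (g3 s t u).1 = !![1, s, t, s * t + u; 0, 1, 0, t; 0, 0, 1, s; 0, 0, 0, 1] := by
  rw [← m4, g3, val_mul, val_mul, val_mul, val_mul, tv_val (by decide), tv_val (by decide), tv_val (by decide),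
    tv_val (by decide), tv_val (by decide)]

theorem g3_mul (s t u s' t' u' : k) : g3 s t u * g3 s' t' u' = g3 (s + s') (t + t') (u + u') :=
  Subtype.ext (by rw [val_mul, g3_val, g3_val, g3_val, m5])

theorem g3_zero : g3 (0 : k) 0 0 = 1 := by simp only [g3, tv_zero, mul_one]

theorem sub3 [CharP k p] (h2 : p = 2) {ι : kˣ} (hι : (ι : k) ^ 2 = -1) {T : Type} [Group T] [Finite T] {φ : T →* SLn 3 k}
    (hinj : Function.Injective φ) {Fq : k →+* k} (hφ : ∀ g, th1 ι (mp Fq g) = g → g ∈ φ.range) {A : Type} {c : A → k}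
    (hc : Function.Injective c) (hfix : ∀ a, Fq (c a) = c a) {f : ℕ} (hA : Nat.card A = p ^ f) :
    Sub3 (rdA p 3 k) φ f := by
  subst h2
  have hz : ∀ (b : Pos 3) t, th1 ι (tv b.1.1 b.1.2 t) = tv b.1.2.rev b.1.1.rev t := fun b t => (th1_z ι b t).trans (by
    show tv _ _ (-((ι ^ (2 * _) : kˣ) : k) * t) = _
    rw [Units.val_pow_eq_pow_val, pow_mul, hι, CharTwo.neg_eq, CharTwo.neg_eq, one_pow, one_mul]
    rfl)
  have hg : ∀ a : A × A × A, ∃ x, φ x = g3 (c a.1) (c a.2.1) (c a.2.2) := fun a => hφ _ (by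
    simp only [g3, map_mul, mp_tv Fq (show (0 : Fin 4) ≠ 1 by decide), mp_tv Fq (show (2 : Fin 4) ≠ 3 by decide),
      mp_tv Fq (show (0 : Fin 4) ≠ 2 by decide), mp_tv Fq (show (1 : Fin 4) ≠ 3 by decide),
      mp_tv Fq (show (0 : Fin 4) ≠ 3 by decide), hfix]
    rw [show th1 ι (tv 0 1 _) = tv 2 3 _ from hz (r3 0 1) _, show th1 ι (tv 2 3 _) = tv 0 1 _ from hz (r3 2 3) _,
      show th1 ι (tv 0 2 _) = tv 1 3 _ from hz (r3 0 2) _, show th1 ι (tv 1 3 _) = tv 0 2 _ from hz (r3 1 3) _,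
      show th1 ι (tv 0 3 _) = tv 0 3 _ from hz (r3 0 3) _, (tv_commute (a := (2 : Fin 4)) (b := 3) (c := 0) (d := 1) (by decide)
        (by decide) _ _).eq, (tv_commute (a := (1 : Fin 4)) (b := 3) (c := 0) (d := 2) (by decide) (by decide) _ _).eq])
  choose x hx using hg
  let B : Subgroup T :=
    { carrier := {y | ∃ s t u, φ y = g3 s t u}
      mul_mem' := by
        rintro _ _ ⟨s, t, u, h⟩ ⟨s', t', u', h'⟩
        exact ⟨_, _, _, by rw [map_mul, h, h', g3_mul]⟩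
      one_mem' := ⟨0, 0, 0, by rw [map_one, g3_zero]⟩
      inv_mem' := by
        rintro _ ⟨s, t, u, h⟩
        refine ⟨-s, -t, -u, ?_⟩
        rw [map_inv, h, inv_eq_iff_mul_eq_one, g3_mul, add_neg_cancel, add_neg_cancel, add_neg_cancel, g3_zero] }
  refine ⟨?_, B, ⟨⟨⟨?_⟩⟩, ?_⟩, ?_, fun y hy => hy⟩
  · have h : g3 (1 : k) 0 0 * g3 0 1 0 = g3 0 1 0 * g3 1 0 0 := by rw [g3_mul, g3_mul, add_comm]
    simp only [g3, tv_zero, mul_one, one_mul] at h
    exact h
  · rintro ⟨y, s, t, u, h⟩ ⟨y', s', t', u', h'⟩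
    refine Subtype.ext (hinj ?_)
    show φ (y * y') = φ (y' * y)
    rw [map_mul, map_mul, h, h', g3_mul, g3_mul, add_comm s, add_comm t, add_comm u]
  · rintro y ⟨s, t, u, h⟩
    refine hinj ?_
    rw [pow_two, map_mul, h, g3_mul, CharTwo.add_self_eq_zero, CharTwo.add_self_eq_zero, CharTwo.add_self_eq_zero, g3_zero,
      map_one]
  · rw [← hA, pow_succ', pow_two, ← Nat.card_prod, ← Nat.card_prod]
    refine Nat.card_le_card_of_injective (fun a => (⟨x a, _, _, _, hx a⟩ : B)) fun a a' h => ?_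
    have h1 := congrArg Subtype.val ((hx a).symm.trans ((congrArg φ (congrArg Subtype.val h)).trans (hx a')))
    rw [g3_val, g3_val] at h1
    have e1 : c a.1 = c a'.1 := congrFun (congrFun h1 0) 1
    have e2 : c a.2.1 = c a'.2.1 := congrFun (congrFun h1 0) 2
    have e3 : c a.1 * c a.2.1 + c a.2.2 = c a'.1 * c a'.2.1 + c a'.2.2 := congrFun (congrFun h1 0) 3
    rw [e1, e2, add_right_inj] at e3
    exact Prod.ext (hc e1) (Prod.ext (hc e2) (hc e3))

end three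

/-! ### the unitary group of the antidiagonal form -/

variable {F : Type} [Field F]

theorem th0_val (g : SLn n F) : (th0 g).1 = Jm F n * (g⁻¹).1ᵀ * Jm F n := by
  ext a b
  rw [mul_Jm, Jm_mul, th0_apply]
  rfl

variable [Fintype F] {q : ℕ} (hF : Fintype.card F = q ^ 2)

theorem mem_SJ_iff {M : SLn n F} : M ∈ SJ hF n ↔ mp (conj hF).toRingHom M = th0 M := by
  refine Iff.trans ?_ Subtype.ext_iff.symm
  rw [mem_SJ, th0_val]
  show _ ↔ M.1.map (conj hF) = _
  refine ⟨fun h => ?_, fun h => ?_⟩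
  · rw [Matrix.mul_assoc]
    conv_rhs => rhs; rw [← h]
    rw [Matrix.mul_assoc, ← Matrix.mul_assoc _ M.1ᵀ, ← transpose_mul, val_mul_inv, transpose_one, Matrix.one_mul,
      ← Matrix.mul_assoc, Jm_Jm, Matrix.one_mul]
  · rw [h, Matrix.mul_assoc, Matrix.mul_assoc, ← Matrix.mul_assoc (Jm F n), Jm_Jm, Matrix.one_mul, ← Matrix.mul_assoc,
      ← transpose_mul, val_inv_mul, transpose_one, Matrix.one_mul]

theorem mem_range_phi [Algebra F k] {Fq : k →+* k} (hq : ∀ x, Fq x = x ^ q) (g : SLn n k) :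
    g ∈ (phi hF n k).range ↔ th0 (mp Fq g) = g := by
  have h0 : ∀ M : SLn n F, mp Fq (mp (algebraMap F k) M) = mp (algebraMap F k) (mp (conj hF).toRingHom M) := fun M => by
    ext a b
    rw [mp_apply, mp_apply, mp_apply, mp_apply, hq, ← map_pow]
    rfl
  refine ⟨?_, fun h => ?_⟩
  · rintro ⟨s, rfl⟩
    show th0 (mp Fq (mp (algebraMap F k) s.1)) = mp (algebraMap F k) s.1
    rw [h0, (mem_SJ_iff hF).1 s.2, mp_th0, th0_th0]
  · have h1 : mp Fq g = th0 g := (th0_th0 _).symm.trans (congrArg th0 h)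
    obtain ⟨M, rfl⟩ := exists_mp (algebraMap F k) (g := g) fun a b => H421.Uni.exists_of_pow (by
      have h2 := congrArg (fun x : SLn n k => x.1 a b) ((congrArg (mp Fq) h1).trans ((mp_th0 Fq g).trans h))
      rwa [hF, pow_two, pow_mul, ← hq, ← hq])
    exact ⟨⟨M, (mem_SJ_iff hF).2 (mp_inj (algebraMap F k) (by rw [← h0, h1, mp_th0]))⟩, rfl⟩

include hF in
theorem card_Cs (j : ℕ) : (if 2 * j + 2 = n + 1 then q else q ^ 2) ≤ Nat.card (Cs (F := F) q n j) + 1 := by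
  split_ifs with h
  · rw [← Finite.card_option]
    refine (card_fixed hF).ge.trans (Nat.card_le_card_of_surjective (fun o : Option (Cs (F := F) q n j) => match o with
      | none => ⟨0, zero_pow_q hF⟩
      | some b => ⟨(b.1 : F), by rw [← Units.val_pow_eq_pow_val, b.2 h]⟩) ?_)
    rintro ⟨x, hx⟩
    by_cases h0 : x = 0
    · exact ⟨none, Subtype.ext h0.symm⟩
    · exact ⟨some ⟨Units.mk0 x h0, fun _ => Units.ext hx⟩, rfl⟩
  · rw [(Subgroup.eq_top_iff' (Cs (F := F) q n j)).2 fun _ h' => absurd h' h, Subgroup.card_top, Nat.card_units,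
      Nat.card_eq_fintype_card, hF]
    omega

/-- unitary matrices are special unitary * diagonal -/
theorem exists_decU (hn : 1 ≤ n) {m : Matrix (Fin (n + 1)) (Fin (n + 1)) F} (hm : mᵀ * Jm F n * m.map (conj hF) = Jm F n) :
    ∃ s ∈ SJ hF n, ∃ d : Fin (n + 1) → Fˣ, m = s.1 * diagonal fun a => (d a : F) := by
  have h1 : m.det * conj hF m.det = 1 := by
    have h2 := congrArg det hm
    have h3 := congrArg det (Jm_Jm (F := F) (n := n))
    rw [det_mul, det_one] at h3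
    rw [det_mul, det_mul, det_transpose, mul_right_comm, mul_eq_right₀ (left_ne_zero_of_mul_eq_one h3)] at h2
    rw [← h2]
    exact congrArg _ ((conj hF).toRingHom.map_det m)
  obtain ⟨y, hy, h2⟩ := TitsThree.PQClass.hilbert90 (conj hF) (pow_q_pow_q hF) (exists_not_fixed hF) h1
  have h0 : (0 : Fin (n + 1)) ≠ Fin.last n := fun e => by have := congrArg Fin.val e; simp at this; omega
  let d : Fin (n + 1) → Fˣ := Pi.mulSingle 0 (Units.mk0 y hy) * Pi.mulSingle (Fin.last n) (Units.mk0 y hy ^ q)⁻¹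
  have hd : ∀ x, d x * d x.rev ^ q = 1 := fun x => by
    by_cases hx : x = 0
    · simp [d, hx, h0, h0.symm, H356.TU.units_pow_q hF]
    by_cases hx' : x = Fin.last n
    · simp [d, hx', h0, h0.symm]
    · simp [d, hx, hx', Fin.rev_eq_iff]
  obtain ⟨s, hs⟩ := exists_dec (m := m) d (by
    simp only [d, Pi.mul_apply, Finset.prod_mul_distrib, Finset.prod_pi_mulSingle', Finset.mem_univ, if_true, Units.val_mul,
      Units.val_inv_eq_inv_val, Units.val_pow_eq_pow_val, Units.val_mk0]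
    rw [mul_inv_eq_iff_eq_mul₀ (pow_ne_zero _ hy)]
    exact h2.symm)
  refine ⟨s, ?_, d, hs⟩
  rw [hs, H356.TU.map_mul_conj, transpose_mul, diagonal_transpose, diagonal_map (map_zero _), Matrix.mul_assoc, Matrix.mul_assoc,
    ← Matrix.mul_assoc (Jm F n), ← Matrix.mul_assoc s.1ᵀ, ← Matrix.mul_assoc s.1ᵀ] at hm
  ext x z
  have h3 := congrFun (congrFun hm x) z
  rw [diagonal_mul, mul_diagonal, mul_left_comm] at h3
  by_cases hz : z = x.rev
  · rw [← h3, hz, conj_apply, ← Units.val_pow_eq_pow_val, ← Units.val_mul, hd, Units.val_one, mul_one]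
  · have h4 : Jm F n x z = 0 := if_neg hz
    rw [h4] at h3 ⊢
    exact (mul_eq_zero.1 h3).resolve_right (mul_ne_zero (d x).ne_zero ((map_ne_zero _).2 (d z).ne_zero))

theorem digit {q a b a' b' : ℕ} (ha : a < q) (ha' : a' < q) (h : a + q * b = a' + q * b') : a = a' ∧ b = b' := by
  have h1 := congrArg (· % q) h
  simp only [Nat.add_mul_mod_self_left, Nat.mod_eq_of_lt ha, Nat.mod_eq_of_lt ha'] at h1
  exact ⟨h1, Nat.eq_of_mul_eq_mul_left (by omega : 0 < q) (by omega)⟩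

/-- the automorphisms in the Witt basis -/
theorem autU {f : ℕ} (hf : 0 < f) (hF : Fintype.card F = (p ^ f) ^ 2) (U : UB hF n) (hn : 2 ≤ n) (hs : ¬ (n = 2 ∧ p ^ f = 2))
    (β : MulAut (PSU (n + 1) F (p ^ f))) : ∃ (s : SJ hF n) (d : Fin (n + 1) → Fˣ) (σ : F ≃+* F), ∀ s₁ : SJ hF n, ∃ z : SJ hF n,
      z.1.1 * (s.1.1 * diagonal fun a => (d a : F)) = (s.1.1 * diagonal fun a => (d a : F)) * (mp σ.toRingHom s₁.1).1 ∧
        β (QuotientGroup.mk (U.psi.symm s₁)) = QuotientGroup.mk (U.psi.symm z) := by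
  obtain ⟨δ, φ', σ, ⟨g, hg, hδ⟩, hφ', rfl⟩ := S2692.result rfl hf hF (n := n + 1) (by omega) (fun h => hs ⟨by omega, h.2⟩) β
  have hg1 : g.1ᵀ * g.1.map (conj hF) = 1 := (LieClassical.GUOrder.mul_map_eq_one_iff hF g.1).1 hg
  have hg2 : (g⁻¹).1ᵀ * (g⁻¹).1.map (conj hF) = 1 := (LieClassical.GUOrder.mul_map_eq_one_iff hF (g⁻¹).1).1 (inv_mem hg)
  have hσ : ∀ A : Matrix (Fin (n + 1)) (Fin (n + 1)) F, (A.map σ)ᵀ * (A.map σ).map (conj hF) = (Aᵀ * A.map (conj hF)).map σ :=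
    fun A => by
    rw [Matrix.map_mul (f := σ), transpose_map]
    exact congrArg _ (Matrix.ext fun a b => (map_pow σ _ _).symm)
  obtain ⟨s, hs', d, hm⟩ := exists_decU hF (by omega) (m := (U.Pg⁻¹).1 * (g.1 * U.P.map σ)) (by
    rw [transpose_mul, H356.TU.map_mul_conj, ← U.gramP, Matrix.mul_assoc, Matrix.mul_assoc, Matrix.mul_assoc,
      ← Matrix.mul_assoc (U.P.map _), ← H356.TU.map_mul_conj, U.mul_Pg_inv, H356.TU.map_one_conj, Matrix.one_mul,
      ← Matrix.mul_assoc _ U.Pᵀ, ← transpose_mul, U.mul_Pg_inv, transpose_one, Matrix.one_mul, transpose_mul,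
      H356.TU.map_mul_conj, Matrix.mul_assoc, ← Matrix.mul_assoc g.1ᵀ, hg1, Matrix.one_mul, hσ, U.gramP]
    ext a b
    simp [Jm, apply_ite σ])
  refine ⟨⟨s, hs'⟩, d, σ, fun s₁ => ?_⟩
  have h2 : mp σ.toRingHom (U.psi.symm s₁).1 ∈ SU (n + 1) F (p ^ f) := (mem_SU_mat hF).2 ((hσ _).trans (by
    rw [(mem_SU_mat hF).1 (U.psi.symm s₁).2]
    exact Matrix.map_one _ (map_zero σ) (map_one σ)))
  obtain ⟨z, hz⟩ := exists_conj g (mp σ.toRingHom (U.psi.symm s₁).1)
  have h3 : z ∈ SU (n + 1) F (p ^ f) := (mem_SU_mat hF).2 (by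
    rw [hz, transpose_mul, transpose_mul, H356.TU.map_mul_conj, H356.TU.map_mul_conj, Matrix.mul_assoc, Matrix.mul_assoc,
      Matrix.mul_assoc, ← Matrix.mul_assoc g.1ᵀ, hg1, Matrix.one_mul, ← Matrix.mul_assoc _ (Matrix.map _ _),
      (mem_SU_mat hF).1 h2, Matrix.one_mul, hg2])
  refine ⟨U.psi ⟨z, h3⟩, ?_, ?_⟩
  · have h4 : (mp σ.toRingHom (U.psi.symm s₁).1).1 * U.P.map σ = U.P.map σ * (mp σ.toRingHom s₁.1).1 := by
      show ((U.Pg⁻¹⁻¹).1 * s₁.1.1 * (U.Pg⁻¹).1).map σ * _ = _ * s₁.1.1.map σ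
      rw [← Matrix.map_mul (f := σ), ← Matrix.map_mul (f := σ), inv_inv, Matrix.mul_assoc, U.Pg_inv_mul, Matrix.mul_one]
      rfl
    rw [← hm, U.psi_val, hz, U.Pg_val]
    simp only [Matrix.mul_assoc]
    rw [← Matrix.mul_assoc U.P, U.mul_Pg_inv, Matrix.one_mul, ← Matrix.mul_assoc (g⁻¹).1, g.inv_mul, Matrix.one_mul, h4]
  · rw [MulEquiv.symm_apply_apply]
    exact (congrArg δ (hφ' (U.psi.symm s₁) ⟨_, h2⟩ rfl)).trans (hδ ⟨_, h2⟩ ⟨z, h3⟩ hz)

/-- **the instance `SU_(n+1)(q)`** -/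
theorem boxU : BoxU := by
  intro p hp F _ _ _ n q hF hn hs
  let k := AlgebraicClosure F
  obtain ⟨f, hf, rfl⟩ : ∃ f, 0 < f ∧ q = p ^ f := by
    obtain ⟨r, f, hr, hc, h1, h2⟩ := exists_prime_pow hF
    exact ⟨f, h2, by rwa [CharP.eq F ‹CharP F p› hc]⟩
  have hq := two_le hF
  obtain ⟨ι, hι⟩ := exists_ι (k := k)
  obtain ⟨μ, hμ⟩ : ∃ μ : kˣ, dlt n ι = dlt n μ * (mp (iterateFrobenius k p f) (dlt n μ))⁻¹ := by
    obtain ⟨c, hc⟩ := IsAlgClosed.exists_pow_nat_eq ((ι⁻¹ : kˣ) : k) (show 0 < p ^ f - 1 by omega)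
    have hc0 : c ≠ 0 := fun e => ι⁻¹.ne_zero (by rw [← hc, e, zero_pow (by omega)])
    refine ⟨Units.mk0 c hc0, ?_⟩
    rw [eq_mul_inv_iff_mul_eq, mp_dlt]
    refine ((gdA n k).δ_mul _ _).symm.trans (congrArg _ (Units.ext ?_))
    show ι * c ^ p ^ f = c
    rw [← Nat.sub_add_cancel (show 1 ≤ p ^ f by omega), pow_succ, hc, Units.mul_inv_cancel_left]
  obtain ⟨U⟩ := exists_UB hF n
  have : Finite (CoxeterMatrix.B ((n + 1) / 2)).Group := UB.finiteW
  let φ : SJ hF n →* SLn n k := (MulAut.conj ((fdA n k).δ μ)).toMonoidHom.comp (phi hF n k)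
  have hφ0 : ∀ s, φ s = dlt n μ * mp (algebraMap F k) s.1 * (dlt n μ)⁻¹ := fun _ => rfl
  have hφ : ∀ g : SLn n k, g ∈ φ.range ↔ grA hι (γ0 n) (mp (iterateFrobenius k p f) g) = g := fun g => by
    have h1 := mem_range_phi hF (Fq := iterateFrobenius k p f) (fun _ => rfl) ((dlt n μ)⁻¹ * g * dlt n μ)
    rw [map_mul, map_mul, map_mul, map_mul, map_inv, map_inv, ← mp_th0 _ (dlt n μ), th0_dlt] at h1
    rw [grA_γ0, th1_apply, hμ]
    refine Iff.trans ⟨?_, ?_⟩ (h1.trans ⟨fun h => ?_, fun h => ?_⟩)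
    · rintro ⟨s, rfl⟩
      exact ⟨s, by rw [hφ0, mul_assoc, mul_assoc, inv_mul_cancel, mul_one, inv_mul_cancel_left]; rfl⟩
    · rintro ⟨s, h⟩
      exact ⟨s, (congrArg (fun x => dlt n μ * x * (dlt n μ)⁻¹) h).trans (by group)⟩
    · exact Eq.trans (by group) ((congrArg (fun x => dlt n μ * x * (dlt n μ)⁻¹) h).trans (by group))
    · exact Eq.trans (by group) (congrArg (fun x => (dlt n μ)⁻¹ * x * dlt n μ) h)
  have hinj : Function.Injective φ :=
    (MulAut.conj _).injective.comp ((mp_inj (algebraMap F k)).comp Subtype.val_injective)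
  have hyp := hyp_tr (D := fdA n k) (H356.TU.hyp_sysU U (p := p) hn (D := fdE n k) (fun _ _ => rfl) (H356.TU.U_le_fdE n _)
    (H356.TU.Um_le_fdE n _) le_rfl (fun _ => rfl) (H356.TU.cov_U hF (H356.TU.phi_mX U hn) (H356.TU.phi_mZ U hn))
    (H379.SUD.sg0 (p := p) (U := U) (fun _ => rfl) (fun _ => rfl) (D := fdA n k) (fun _ _ => rfl)
      (H356.TU.map_sysU U hn (fun _ _ => rfl) le_rfl le_rfl le_rfl fun _ => rfl)) (H379.SUD.lam (fun _ => rfl) hF))
    (H356.TU.map_sysU U hn (fun _ _ => rfl) le_rfl le_rfl le_rfl fun _ => rfl) rfl rfl rfl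
    (fun b => ⟨H356.TU.eps k b, fun s => congrArg ((fdA n k).z b) (by rw [← mul_assoc, H356.TU.eps_mul, one_mul])⟩) μ
    (τ_range hι hφ)
  have syl : ¬ p ∣ (sysU U (p := p) hn).U.index := syl_of_rgd U.rgd (H356.TU.rin U (p := p) hn).gen
  have hT := LieClassical.HermPerfect.commutator_SU_eq_top (n := n + 1) hF (by omega) fun h => hs ⟨by omega, h.2⟩
  have hadd : ∀ m, 0 < m → ¬ p ∣ (p ^ f) ^ m + 1 := fun m hm h =>
    hp.out.ne_one (Nat.dvd_one.1 ((Nat.dvd_add_right (dvd_pow (dvd_pow_self p hf.ne') hm.ne')).1 h))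
  refine hasA_of hι hf (γ0 n) φ hinj hφ hyp (fun W _ _ => H356.TU.wt_sysU U hn) (fun l hl j => ?_) (fun l l' hl hl' h => ?_) ?_
    syl ?_ ((QuotientGroup.mk' _).comp U.psi.symm.toMonoidHom) ((QuotientGroup.mk'_surjective _).comp U.psi.symm.surjective)
    (fun K _ _ hK hZ e => ?_) (fun β => ?_) fun h2 _ h3 => ?_
  · have h1 := card_Cs (n := n) hF j
    have h2 := hl ⟨j, by omega⟩
    have h3 := Nat.mul_le_mul_left (p ^ f) (hl ⟨n - 1 - j, by omega⟩)
    rw [H379.SUD.wt_eq fun _ => rfl]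
    rw [Nat.mul_succ, ← pow_two] at h3
    split_ifs at h1 ⊢ <;> omega
  · funext i
    have hi := i.2
    by_cases h1 : (i : ℕ) < (n + 1) / 2
    · have h2 := congrFun h ⟨i, h1⟩
      rw [H379.SUD.wt_eq fun _ => rfl, H379.SUD.wt_eq fun _ => rfl] at h2
      split_ifs at h2
      · exact h2
      · exact (digit (hl _) (hl' _) h2).1
    · have h2 := congrFun h ⟨n - 1 - i, by omega⟩
      rw [H379.SUD.wt_eq fun _ => rfl, H379.SUD.wt_eq fun _ => rfl, if_neg (by simp only; omega),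
        if_neg (by simp only; omega)] at h2
      have h3 := (digit (hl _) (hl' _) h2).2
      simp only [show n - 1 - (n - 1 - i) = i by omega] at h3
      exact h3
  · rw [← pow_mul]
    refine card_of_syl (isPGroup_U _ _) syl (a := p ^ f + 1) (pow_one (p ^ f) ▸ hadd 1 one_pos) (fun h => ?_)
      (by rw [← Nat.card_congr U.psi.toEquiv, S0278.result hF (n + 1) n.succ_pos, pow_mul, card_Pos])
    obtain ⟨i, -, hi⟩ := hp.out.prime.exists_mem_finset_dvd h
    split_ifs at hi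
    · exact hadd _ i.succ_pos hi
    · exact not_dvd_sub hf i.succ_pos hi
  · rw [_root_.commutator_def, ← Subgroup.map_top_of_surjective U.psi.toMonoidHom U.psi.surjective, ← Subgroup.map_commutator,
      ← _root_.commutator_def, hT]
  · obtain ⟨ψ, h1, h2⟩ := cover_of hT (fun r hr hne => H61.SUCross.noPCov_SU hF (by omega) hp.out hr hne
      fun _ => H61.UThreeCE.noCE_SU3 hF hp.out hr hne) K hK hZ e
    exact ⟨ψ.comp U.psi.symm.toMonoidHom, h1.comp U.psi.symm.surjective, fun s => h2 _⟩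
  · obtain ⟨s, d, σ, h0⟩ := autU hf hF U hn hs β
    obtain ⟨j, hj, -⟩ := H481.OddAut.exists_pow (hF.trans (pow_mul p f 2).symm) σ
    obtain ⟨h, hh, h1⟩ := exists_h (algebraMap F k) s.1 d
    refine ⟨s, dlt n μ * h * (mp (iterateFrobenius k p j) (dlt n μ))⁻¹, 1, j,
      mul_mem (mul_mem (dl_mem _ _) hh) (inv_mem (mp_mem_T _ (dl_mem _ _))), fun s₁ => ?_⟩
    obtain ⟨z, h2, h3⟩ := h0 s₁
    refine ⟨s⁻¹ * z * s, ?_, ?_⟩
    · rw [map_one, MulAut.one_apply, hφ0, hφ0, map_mul, map_mul, map_inv, ← mp_σ _ hj]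
      exact (congrArg (fun x => dlt n μ * x * (dlt n μ)⁻¹) (h1 z.1 _ h2)).trans (by group)
    · rw [mul_assoc _ z, mul_inv_cancel_left, mul_inv_cancel_right]
      exact h3
  · subst h3
    exact sub3 h2 hι hinj (fun g h => (hφ g).2 ((grA_γ0 hι _).trans h)) (A := {x : F // x ^ p ^ f = x})
      (c := fun x => algebraMap F k x.1) ((algebraMap F k).injective.comp Subtype.val_injective)
      (fun a => by rw [iterateFrobenius_def, ← map_pow, a.2]) (card_fixed hF)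

end Cfsg.Agent.TwoF.DC.TA.I
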