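import Cfsg.Agent.TwoF.DC.TA.I.Gr

/-!
# TwoF, defining characteristic, type `A_n`, instances (3): Frobenius, graph automorphism, the constructor (helper52)
-/

set_option autoImplicit false
set_option maxHeartbeats 400000
set_option linter.unusedSectionVars false

namespace Cfsg.Agent.TwoF.DC.TA.I

open Matrix Cfsg.Agent.H45.UniE Cfsg.Agent.H356.TA Cfsg.Agent.TitsThree.KSideA
  Cfsg.Agent.Nodes.RGDTypeA Cfsg.Agent.H564.TWP

variable {p : ℕ} [hp : Fact p.Prime] {n : ℕ} {k : Type} [Field k]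

theorem mp_mp {F K : Type} [Field F] [Field K] (f : F →+* K) (f' : K →+* k) (g : SLn n F) :
    mp f' (mp f g) = mp (f'.comp f) g := rfl

theorem Fr_iter [CharP k p] (j : ℕ) (g : SLn n k) : (mp (frobenius k p))^[j] g = mp (iterateFrobenius k p j) g := by
  induction j with
  | zero => ext a b; rw [mp_apply, iterateFrobenius_def, pow_zero, pow_one]; rfl
  | succ j ih =>
    rw [Function.iterate_succ_apply', ih]
    ext a b
    rw [mp_apply, mp_apply, mp_apply, iterateFrobenius_def, iterateFrobenius_def, frobenius_def, pow_succ, pow_mul]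

/-- the graph automorphism -/
def th1 (ι : kˣ) : SLn n k →* SLn n k := (MulAut.conj (dlt n ι)).toMonoidHom.comp th0

theorem th1_apply (ι : kˣ) (g : SLn n k) : th1 ι g = dlt n ι * th0 g * (dlt n ι)⁻¹ := rfl

theorem th1_z (ι : kˣ) (b : Pos n) (t : k) :
    th1 ι ((gdA n k).z b t) = (gdA n k).z (fl n b) ((-ι ^ (gdA n k).ht (fl n b) : kˣ) * t) := by
  refine (congrArg (fun x => dlt n ι * x * (dlt n ι)⁻¹) (th0_tv b.2.ne t)).trans
    ((δ_conj (gdA n k) ι (fl n b) (-t)).trans ?_)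
  rw [Units.val_neg, Units.val_pow_eq_pow_val, neg_mul, mul_neg]

theorem fl_zA (i : Fin n) : fl n (zA i) = zA i.rev := by
  have := i.2
  refine pos_ext ?_ ?_
  all_goals simp only [fl_fst, fl_snd, zA_fst, zA_snd, Fin.val_rev]
  all_goals omega

theorem ht_zA (i : Fin n) : (gdA n k).ht (zA i) = 2 := by
  show 2 * ((i : ℕ) + 1 - i) = 2
  omega

variable {ι : kˣ} (hι : (ι : k) ^ 2 = -1)
include hι

theorem th1_x (i : Fin n) (t : k) : th1 ι ((gdA n k).x i t) = (gdA n k).x i.rev t := by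
  refine (th1_z ι (zA i) t).trans ?_
  rw [fl_zA, ht_zA, Units.val_neg, Units.val_pow_eq_pow_val, hι, neg_neg, one_mul]
  rfl

theorem th1_y (i : Fin n) (t : k) : th1 ι ((gdA n k).y i t) = (gdA n k).y i.rev t := by
  have h1 : th0 ((gdA n k).y i t) = (gdA n k).τ ((gdA n k).z (zA i.rev) (-t)) := by
    refine (th0_tv (cs_ne i).symm t).trans (Eq.trans ?_ ((gdA n k).τ_x i.rev (-t)).symm)
    rw [Fin.rev_castSucc, Fin.rev_succ]
    rfl
  rw [th1_apply, h1]
  refine (δ_τ (gdA n k) ι _).symm.trans ?_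
  rw [δ_conj, ht_zA, Units.val_inv_eq_inv_val, inv_pow, hι, inv_neg, inv_one, neg_mul_neg, one_mul]
  exact (gdA n k).τ_x i.rev t

theorem th1_th1 (g : SLn n k) : th1 ι (th1 ι g) = g :=
  DFunLike.congr_fun ((rdA 2 n k).hom_ext (α := (th1 ι).comp (th1 ι)) (β := MonoidHom.id _)
    (fun i t => (congrArg (th1 ι) (th1_x hι i t)).trans ((th1_x hι _ t).trans (by rw [Fin.rev_rev]; rfl)))
    fun i t => (congrArg (th1 ι) (th1_y hι i t)).trans ((th1_y hι _ t).trans (by rw [Fin.rev_rev]; rfl))) g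

theorem th1_mp (f : k →+* k) (g : SLn n k) : th1 ι (mp f g) = mp f (th1 ι g) :=
  DFunLike.congr_fun ((rdA 2 n k).hom_ext (α := (th1 ι).comp (mp f)) (β := (mp f).comp (th1 ι))
    (fun i t => (congrArg (th1 ι) (mp_tv f (cs_ne i) t)).trans ((th1_x hι i _).trans
      ((mp_tv f (cs_ne i.rev) t).symm.trans (congrArg (mp f) (th1_x hι i t).symm))))
    fun i t => (congrArg (th1 ι) (mp_tv f (cs_ne i).symm t)).trans ((th1_y hι i _).trans
      ((mp_tv f (cs_ne i.rev).symm t).symm.trans (congrArg (mp f) (th1_y hι i t).symm)))) g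

omit hι in
theorem rev_sq (n : ℕ) : (Fin.revPerm : Equiv.Perm (Fin n)) * Fin.revPerm = 1 := Equiv.ext Fin.rev_rev

omit hι in
theorem fl_sq (n : ℕ) : fl n * fl n = 1 := Equiv.ext fl_fl

/-- the graph automorphism -/
def thA : MulAut (SLn n k) where
  toFun := th1 ι
  invFun := th1 ι
  left_inv := th1_th1 hι
  right_inv := th1_th1 hι
  map_mul' := map_mul (th1 ι)

omit hι in
/-- the group of graph automorphisms -/
abbrev GrA (n : ℕ) : Type := Subgroup.zpowers (Fin.revPerm : Equiv.Perm (Fin n))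

/-- the action of the graph automorphisms -/
noncomputable def grA : GrA n →* MulAut (SLn n k) := hom2 (rev_sq n) (thA hι) (MulEquiv.ext fun g => th1_th1 hι g)

omit hι in
/-- the generator -/
def γ0 (n : ℕ) : GrA n := ⟨_, Subgroup.mem_zpowers _⟩

theorem grA_ne {γ : GrA n} (h : γ ≠ 1) (g : SLn n k) : grA hι γ g = th1 ι g := by rw [grA, hom2_of_ne _ _ _ h]; rfl

theorem grA_γ0 (g : SLn n k) : grA hι (γ0 n) g = th1 ι g := by
  by_cases h : γ0 n = 1
  · have h1 : ∀ i : Fin n, i.rev = i := fun i => DFunLike.congr_fun (congrArg Subtype.val h) i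
    rw [h, map_one]
    exact DFunLike.congr_fun ((rdA 2 n k).hom_ext (α := MonoidHom.id _) (β := th1 ι)
      (fun i t => ((th1_x hι i t).trans (by rw [h1]; rfl)).symm) fun i t => ((th1_y hι i t).trans (by rw [h1]; rfl)).symm) g
  · exact grA_ne hι h g

omit hι in
theorem GrA_cases (γ : GrA n) : γ = 1 ∨ (γ ≠ 1 ∧ γ.1 = Fin.revPerm) := by
  by_cases h : γ = 1
  · exact Or.inl h
  · exact Or.inr ⟨h, (two (rev_sq n) γ).resolve_left h⟩

theorem grA_x (γ : GrA n) (i : Fin n) (t : k) : grA hι γ ((gdA n k).x i t) = (gdA n k).x (γ.1 i) t := by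
  rcases GrA_cases γ with rfl | ⟨h, h'⟩
  · rw [map_one]; rfl
  · rw [grA_ne hι h, h', th1_x hι]; rfl

theorem grA_y (γ : GrA n) (i : Fin n) (t : k) : grA hι γ ((gdA n k).y i t) = (gdA n k).y (γ.1 i) t := by
  rcases GrA_cases γ with rfl | ⟨h, h'⟩
  · rw [map_one]; rfl
  · rw [grA_ne hι h, h', th1_y hι]; rfl

theorem grA_mp (γ : GrA n) (f : k →+* k) (g : SLn n k) : grA hι γ (mp f g) = mp f (grA hι γ g) := by
  rcases GrA_cases γ with rfl | ⟨h, -⟩
  · rw [map_one]; rfl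
  · rw [grA_ne hι h, grA_ne hι h, th1_mp hι]

omit hι in
theorem GrA_comm (γ γ' : GrA n) : Commute γ γ' := by
  rcases GrA_cases γ with rfl | ⟨-, h⟩
  · exact Commute.one_left _
  rcases GrA_cases γ' with rfl | ⟨-, h'⟩
  · exact Commute.one_right _
  · rw [Subtype.ext (h.trans h'.symm)]

/-- the fixed points are closed under transposition -/
theorem τ_range {T : Type} [Group T] {φ : T →* SLn n k} {σ : GrA n} {f : k →+* k}
    (hφ : ∀ g, g ∈ φ.range ↔ grA hι σ (mp f g) = g) : ∀ g ∈ φ.range, (fdA n k).τ g ∈ φ.range := fun g hg =>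
  (hφ _).2 (((rdA 2 n k).map_τ (α := (grA hι σ).toMonoidHom.comp (mp f)) (γ := σ.1) (ω := f)
    (fun i t => (congrArg (grA hι σ) (mp_tv f (cs_ne i) t)).trans (grA_x hι σ i _))
    (fun i t => (congrArg (grA hι σ) (mp_tv f (cs_ne i).symm t)).trans (grA_y hι σ i _)) g).trans
      (congrArg (fdA n k).τ ((hφ g).1 hg)))

/-- **the constructor of the instances** -/
theorem hasA_of [IsAlgClosed k] [CharP k p] {T S : Type} [Group T] [Finite T] [Group S] {f : ℕ} (hf : 0 < f) (σ : GrA n)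
    (φ : T →* SLn n k) (hinj : Function.Injective φ)
    (hφ : ∀ g, g ∈ φ.range ↔ grA hι σ (mp (iterateFrobenius k p f) g) = g)
    {J : Type} [DecidableEq J] {C : J → Type} [∀ j, CommGroup (C j)] {E : TSys J C T} {χ : (j : J) → C j →* kˣ}
    {orb : Fin n → J} {e : Fin n → ℕ} (hyp : Hyp p E (fdA n k) φ χ orb e fun _ => p ^ f)
    (hwt : ∀ (W : Type) [AddCommGroup W] [Module k W], E.Wt k W)
    (wt_le : ∀ l : Fin n → ℕ, (∀ i, l i < p ^ f) → ∀ j, TSys.wt orb e l j ≤ Nat.card (C j))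
    (wt_inj : ∀ l l' : Fin n → ℕ, (∀ i, l i < p ^ f) → (∀ i, l' i < p ^ f) → TSys.wt orb e l = TSys.wt orb e l' → l = l')
    (hU : Nat.card E.U = (p ^ f) ^ Fintype.card (Pos n)) (syl : ¬ p ∣ E.U.index) (perfect : commutator T = ⊤)
    (π : T →* S) (π_surj : Function.Surjective π)
    (cover : ∀ (K : Type) [Group K] [Finite K], IsQuasisimple K → ¬ p ∣ Nat.card (Subgroup.center K) →
      ∀ e : (K ⧸ Subgroup.center K) ≃* S, ∃ ψ : T →* K, Function.Surjective ψ ∧ ∀ s, e (QuotientGroup.mk (ψ s)) = π s)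
    (aut : ∀ α : MulAut S, ∃ (s : T) (h : SLn n k) (γ : GrA n) (j : ℕ), h ∈ Nodes.RGDTypeA.T (Fin (n + 1)) k ∧
      ∀ s₁ : T, ∃ s₂ : T, φ s₂ = h * grA hι γ (mp (iterateFrobenius k p j) (φ s₁)) * h⁻¹ ∧ α (π s₁) = π (s * s₂ * s⁻¹))
    (sub : p = 2 → σ ≠ 1 → Sub3' (rdA p n k) φ f) : HasA p n S := by
  have hΦ : ∀ γ : GrA n, (γ.1 = 1 ∧ hom2 (rev_sq n) (fl n) (fl_sq n) γ = 1) ∨
      (γ.1 = Fin.revPerm ∧ hom2 (rev_sq n) (fl n) (fl_sq n) γ = fl n) := fun γ => by
    rcases GrA_cases γ with rfl | ⟨h, h'⟩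
    · exact Or.inl ⟨rfl, map_one _⟩
    · exact Or.inr ⟨h', hom2_of_ne _ _ _ h⟩
  have hcf : ∀ (γ : GrA n) b i, cfA (hom2 (rev_sq n) (fl n) (fl_sq n) γ b) (γ.1 i) = cfA b i := fun γ b i => by
    rcases hΦ γ with ⟨h, h'⟩ | ⟨h, h'⟩ <;> rw [h, h']
    · rfl
    · have h1 := b.1.1.2
      have h2 := b.1.2.2
      have h3 := i.2
      simp only [cfA, fl_fst, fl_snd, Fin.revPerm_apply, Fin.val_rev]
      congr 1
      exact propext (by omega)
  refine ⟨k, SLn n k, inferInstance, inferInstance, inferInstance, inferInstance, rdA p n k, T, inferInstance, inferInstance,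
    { f := f, f_pos := hf, Fr := mp (frobenius k p), Fr_z := fun b t => mp_tv _ b.2.ne t
      Fr_y := fun i t => mp_tv _ (cs_ne i).symm t, Δ_Fr := fun i g => DA_mp _ i g
      Gr := GrA n, gr := grA hι, gι := Subgroup.subtype _, gΦ := hom2 (rev_sq n) (fl n) (fl_sq n)
      gι_inj := Subtype.val_injective, gr_x := grA_x hι, gr_y := grA_y hι, gr_z := fun γ b => ?_, cf_gr := hcf, co_gr := hcf
      C_gr := fun γ i j => ?_, ht_gr := fun γ b => ?_
      Δ_gr := fun γ i g => Δ_map (rdA p n k) T_le (α := (grA hι γ).toMonoidHom) (grA_x hι γ) (grA_y hι γ) i g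
      Gr_small := ?_, σ := σ, φ := φ, φ_inj := hinj, φ_fix := fun s => ?_, φ_Fr := fun s => ?_, φ_gr := fun γ hγ s => ?_
      J := J, C := C, E := E, χ := χ, orb := orb, e := e, hyp := hyp, hwt := hwt, wt_le := wt_le, wt_inj := wt_inj
      card_U := hU, syl := syl, perfect := perfect, π := π, π_surj := π_surj, cover := cover },
    isA_RA, fun γ => ?_, fun α => ?_, sub⟩
  · rcases GrA_cases γ with rfl | ⟨h, -⟩
    · exact ⟨1, fun t => by rw [map_one, map_one, Units.val_one, one_mul]; rfl⟩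
    · exact ⟨_, fun t => by rw [grA_ne hι h, hom2_of_ne _ _ _ h]; exact th1_z ι b t⟩
  · show CA (γ.1 i) (γ.1 j) = CA i j
    rcases hΦ γ with ⟨h, -⟩ | ⟨h, -⟩ <;> rw [h]
    · rfl
    · have h1 := i.2
      have h2 := j.2
      simp only [CA, Fin.revPerm_apply, Fin.val_rev]
      omega
  · rcases hΦ γ with ⟨-, h⟩ | ⟨-, h⟩ <;> rw [h]
    · rfl
    · have h1 := b.1.1.2
      have h2 := b.1.2.2
      show 2 * (((fl n b).1.2 : ℕ) - (fl n b).1.1) = 2 * ((b.1.2 : ℕ) - b.1.1)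
      rw [fl_fst, fl_snd]
      omega
  · rw [Nat.card_zpowers]
    exact (orderOf_dvd_of_pow_eq_one ((pow_two _).trans (rev_sq n))).trans ⟨3, rfl⟩
  · rw [Fr_iter]
    exact (hφ _).1 ⟨s, rfl⟩
  · refine (hφ _).2 ?_
    rw [mp_mp, show (iterateFrobenius k p f).comp (frobenius k p) = (frobenius k p).comp (iterateFrobenius k p f) from
      RingHom.ext fun x => by simp only [RingHom.comp_apply, frobenius_def, map_pow], ← mp_mp, grA_mp, (hφ _).1 ⟨s, rfl⟩]
  · refine (hφ _).2 ?_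
    rw [← grA_mp, ← MulAut.mul_apply, ← map_mul, ← hγ.eq, map_mul, MulAut.mul_apply, (hφ _).1 ⟨s, rfl⟩]
  · rcases GrA_cases γ with h | ⟨h, h'⟩
    · exact Or.inl h
    · refine Or.inr ⟨?_, h', hom2_of_ne (rev_sq n) (fl n) (fl_sq n) h⟩
      by_contra hn
      have : Subsingleton (Fin n) := Fin.subsingleton_iff_le_one.2 (by omega)
      exact h (Subsingleton.elim _ _)
  · obtain ⟨s, h, γ, j, h1, h2⟩ := aut α
    refine ⟨s, h, γ, j, T_le h1, GrA_comm _ _, fun s₁ => ?_⟩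
    obtain ⟨s₂, h3, h4⟩ := h2 s₁
    exact ⟨s₂, h3.trans (by rw [← Fr_iter]), h4⟩

end Cfsg.Agent.TwoF.DC.TA.I
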